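import Groth.Agent.Sga7.H759.Coord
import Groth.Agent.Sga4h.NcAsmDefs
import Groth.Agent.Sga4h.NcHull2
import Mathlib.AlgebraicGeometry.Pullbacks
import Mathlib.CategoryTheory.Limits.Shapes.Pullback.Pasting

/-!
# The inductive step for the refined bound on nearby cycles
-/

set_option autoImplicit false
set_option linter.style.haveILetI false

universe u

open CategoryTheory CategoryTheory.Limits AlgebraicGeometry Opposite TensorProduct

namespace Groth.Agent.Sga7.H759.Step

open IsLocalRing Polynomial Groth.Agent.Sga4h.NcHull Groth.Agent.CalgC.IndEtale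
open Groth.Agent.Sga7.H759.IndAlg Groth.Agent.Sga7.H759.Coord Groth.Agent.Sga4h.NcAsm

/-- The refined vanishing claim. -/
def Claim (m k : ℕ) : Prop :=
  ∀ (n : ℕ) (R L : Type u) [CommRing R] [IsLocalRing R] [Field L] [Algebra R L], Trait m R L →
    ∀ (B S : Type u) [CommRing B] [Algebra R B] [Algebra.FiniteType R B] [CommRing S] [IsLocalRing S]
      [Algebra B S] [Algebra R S] [IsScalarTower R B S] [IsLocalHom (algebraMap R S)],
      EtCoh.IsStrictlyHenselianLocalRing S → IsIndEtale B S →
      (k : Cardinal.{u}) ≤ Algebra.trdeg (ResidueField R) (ResidueField S) → GenDimLE R B (n + k) →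
      ∀ {Y : Scheme.{u}} (a : Y ⟶ Spec (CommRingCat.of S)) (b : Y ⟶ Spec (CommRingCat.of L)),
        IsPullback a b (Spec.map (CommRingCat.ofHom (algebraMap R S)))
          (Spec.map (CommRingCat.ofHom (algebraMap R L))) →
        ∀ (F : EtCoh.Ab Y), EtCoh.KilledBy m F → ∀ i : ℕ, n < i → Subsingleton (EtCoh.H Y F i)

/-- The hull of the affline line over a trait, with a given strict henselization. -/
theorem trait_hull (m : ℕ) (R L : Type u) [CommRing R] [IsDomain R] [IsDiscreteValuationRing R] [Field L]
    [Algebra R L] (hT : Trait m R L)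
    (R' : Type u) [CommRing R'] [IsLocalRing R'] [Algebra (O R) R'] [IsLocalHom (algebraMap (O R) R')]
    [Hensel.IsStrictHenselization (O R) R'] [Algebra R R'] [IsScalarTower R (O R) R']
    [Algebra R[X] R'] [IsScalarTower R[X] (O R) R'] [IsScalarTower R R[X] R'] :
    ∃ (L' : Type u) (_ : Field L') (_ : Algebra R' L') (lam : L →+* L'), Trait m R' L' ∧
      IsPushout (CommRingCat.ofHom (algebraMap R L)) (CommRingCat.ofHom (algebraMap R R'))
        (CommRingCat.ofHom lam) (CommRingCat.ofHom (algebraMap R' L')) := by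
  obtain ⟨K, _, _, _, _, _, hsep⟩ := hT.sep
  have i11 : IsDomain R' := isDomain R R'
  have i12 : IsDiscreteValuationRing R' := isDiscreteValuationRing R R'
  have hF : IsField (TT R R' L) := isField_TT R R' K L hT.isSH
  have i13 : IsDomain (TT R R' L) := hF.isDomain
  letI i14 : Algebra (FractionRing R') (L' R R' L) := (kToL' R R' K L).toAlgebra
  letI i15 : Algebra R' (L' R R' L) := (toL' R R' L).toAlgebra
  have i16 : IsScalarTower R' (FractionRing R') (L' R R' L) :=
    IsScalarTower.of_algebraMap_eq fun r => (kToL'_algebraMap R R' K L r).symm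
  have i17 : Algebra.IsSeparable (FractionRing R') (L' R R' L) := isSeparable R R' K L hF
  have hn' : IsUnit (m : R') := by
    have := hT.isUnit.map (algebraMap R R')
    rwa [map_natCast] at this
  refine ⟨L' R R' L, inferInstance, i15, lToL' R R' L, ⟨i11, i12, isStrictlyHenselianLocalRing R R', hn',
    ⟨FractionRing R', inferInstance, inferInstance, inferInstance, i14, i16, i17⟩,
    rootClosed R R' L m hT.isUnit hT.root⟩, ?_⟩
  have hbij := IsField.localization_map_bijective (Rₘ := L' R R' L)
    (M := nonZeroDivisors (TT R R' L)) (zero_notMem_nonZeroDivisors) hF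
  let e : CommRingCat.of (TT R R' L) ≅ CommRingCat.of (L' R R' L) :=
    (RingEquiv.ofBijective _ hbij).toCommRingCatIso
  refine IsPushout.of_iso (CommRingCat.isPushout_tensorProduct R L R') (Iso.refl _) (Iso.refl _)
    (Iso.refl _) e ?_ ?_ ?_ ?_
  · simp
  · simp
  · simp; rfl
  · simp; rfl

attribute [local instance] Algebra.TensorProduct.rightAlgebra in
theorem step (m k : ℕ) (ih : Claim.{u} m k) : Claim.{u} m (k + 1) := by
  intro n R L _ _ _ _ hT B S _ _ _ _ _ _ _ _ _ hSH hS hk hd Y a b hY F hF i hi
  have hdom : IsDomain R := hT.isDomain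
  have hDVR : IsDiscreteValuationRing R := hT.isDVR
  have h1k : 1 ≤ Algebra.trdeg (ResidueField R) (ResidueField S) := by
    refine le_trans ?_ hk
    rw [Nat.cast_add, Nat.cast_one]
    exact le_add_self
  obtain ⟨t, ht⟩ := exists_coord hS h1k
  obtain ⟨R', i1, i2, i3, i4, i5, γ, hγ1, hγ2⟩ := exists_hull_map hSH (algebraMap B S t) ht
  letI i6 : Algebra R[X] R' := ((algebraMap (O R) R').comp (algebraMap R[X] (O R))).toAlgebra
  have i7 : IsScalarTower R[X] (O R) R' := IsScalarTower.of_algebraMap_eq fun _ => rfl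
  letI i8 : Algebra R R' := ((algebraMap R[X] R').comp C).toAlgebra
  have i9 : IsScalarTower R R[X] R' := IsScalarTower.of_algebraMap_eq fun _ => rfl
  have i10 : IsScalarTower R (O R) R' := IsScalarTower.of_algebraMap_eq fun _ => rfl
  have i11 : IsDomain R' := isDomain R R'
  have i12 : IsLocalHom (algebraMap R R') := isLocalHom R R'
  obtain ⟨L', _, _, lam, hT', hpo⟩ := trait_hull m R L hT R'
  -- structures on `S`
  letI j1 : Algebra R' S := γ.toAlgebra
  have j1' : IsLocalHom (algebraMap R' S) := hγ1
  letI j2 : Algebra R[X] S := (aeval (algebraMap B S t) : R[X] →ₐ[R] S).toRingHom.toAlgebra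
  have j3 : IsScalarTower R[X] R' S := IsScalarTower.of_algebraMap_eq fun f => (hγ2 f).symm
  letI j4 : Algebra R[X] B := (aeval t : R[X] →ₐ[R] B).toRingHom.toAlgebra
  have j5 : IsScalarTower R[X] B S := IsScalarTower.of_algebraMap_eq fun f => by
    change aeval (algebraMap B S t) f = algebraMap B S (aeval t f)
    rw [aeval_algebraMap_apply]
  have j6 : IsScalarTower R R[X] B := IsScalarTower.of_algebraMap_eq fun r => by
    change _ = aeval t (C r)
    rw [aeval_C]
  have j7 : IsScalarTower R R' S := IsScalarTower.of_algebraMap_eq fun r => by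
    change _ = γ (algebraMap (O R) R' (algebraMap R[X] (O R) (C r)))
    rw [hγ2, aeval_C]
  have j8 : Algebra.FiniteType R[X] B := Algebra.FiniteType.of_restrictScalars_finiteType R R[X] B
  -- the new algebra
  let B' := R' ⊗[R[X]] B
  let φ : B' →ₐ[R'] S := Algebra.TensorProduct.lift (Algebra.ofId R' S) (IsScalarTower.toAlgHom R[X] B S)
    (fun _ _ => Commute.all _ _)
  letI l1 : Algebra B' S := φ.toRingHom.toAlgebra
  have l2 : IsScalarTower R' B' S := IsScalarTower.of_algebraMap_eq fun r => (φ.commutes r).symm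
  have l3 : IsScalarTower B B' S := IsScalarTower.of_algebraMap_eq fun x => by
    have h1 : φ ((1 : R') ⊗ₜ[R[X]] x) = algebraMap R' S 1 * algebraMap B S x :=
      Algebra.TensorProduct.lift_tmul _ _ _ _ _
    rw [map_one, one_mul] at h1
    exact h1.symm
  have l4 : IsIndEtale B B' := by
    have h1 : IsIndEtale B (B ⊗[R[X]] R') := IsInd.baseChange isGood_etale (isIndEtale R R') B
    exact IsIndP.of_algEquiv h1 (Algebra.TensorProduct.commRight R[X] B R')
  have l5 : IsIndEtale B' S := IsInd.cancel isGood_etale l4 hS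
  have l6 : IsScalarTower R R' B' := inferInstance
  have l7 : IsScalarTower R B B' := IsScalarTower.of_algebraMap_eq fun r => by
    change algebraMap R B' r = (1 : R') ⊗ₜ[R[X]] (algebraMap R B r)
    rw [IsScalarTower.algebraMap_apply R R[X] B, IsScalarTower.algebraMap_apply R R' B',
      IsScalarTower.algebraMap_apply R R[X] R']
    change (algebraMap R[X] R' (algebraMap R R[X] r)) ⊗ₜ[R[X]] (1 : B) = _
    rw [Algebra.algebraMap_eq_smul_one (R := R[X]) (A := R'), Algebra.algebraMap_eq_smul_one (R := R[X]) (A := B),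
      TensorProduct.smul_tmul]
  have hinj : Function.Injective (algebraMap R R') := algebraMap_hull_injective R R'
  have l8 : GenDimLE R' B' (n + k) :=
    GenDimLE.drop (R := R) (R' := R') (B := B) (B' := B') hinj (one_le_trdeg_hull R R') l4 hd
  have l9 := le_trdeg_residue R R' S k hk
  -- the square
  have sq := isPullback_SpecMap_of_isPushout _ _ _ _ hpo
  have hRS : Spec.map (CommRingCat.ofHom (algebraMap R' S)) ≫ Spec.map (CommRingCat.ofHom (algebraMap R R')) =
      Spec.map (CommRingCat.ofHom (algebraMap R S)) := by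
    rw [← Spec.map_comp, ← CommRingCat.ofHom_comp, ← IsScalarTower.algebraMap_eq]
  have w : b ≫ Spec.map (CommRingCat.ofHom (algebraMap R L)) =
      (a ≫ Spec.map (CommRingCat.ofHom (algebraMap R' S))) ≫
        Spec.map (CommRingCat.ofHom (algebraMap R R')) := by
    rw [Category.assoc, hRS]
    exact hY.w.symm
  let b' : Y ⟶ Spec (CommRingCat.of L') := sq.lift b (a ≫ Spec.map (CommRingCat.ofHom (algebraMap R' S))) w
  have hb1 : b' ≫ Spec.map (CommRingCat.ofHom lam) = b := sq.lift_fst _ _ _
  have hb2 : b' ≫ Spec.map (CommRingCat.ofHom (algebraMap R' L')) =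
      a ≫ Spec.map (CommRingCat.ofHom (algebraMap R' S)) := sq.lift_snd _ _ _
  have hY' : IsPullback a b' (Spec.map (CommRingCat.ofHom (algebraMap R' S)))
      (Spec.map (CommRingCat.ofHom (algebraMap R' L'))) := by
    refine (IsPullback.of_right (h₁₁ := b') (h₁₂ := Spec.map (CommRingCat.ofHom lam)) ?_ hb2 sq).flip
    rw [hb1, hRS]
    exact hY.flip
  exact ih n R' L' hT' B' S hSH l5 l9 l8 a b' hY' F hF i hi

end Groth.Agent.Sga7.H759.Step
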