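import Groth.Agent.Sga7.H759.Trd
import Groth.Agent.EtpbcA.TrdegSpec
import Mathlib.AlgebraicGeometry.Morphisms.ClosedImmersion
import Mathlib.AlgebraicGeometry.IdealSheaf.Subscheme
import Mathlib.Topology.KrullDimension

/-!
# The dimension of the closure of a point of the special fibre bounds the transcendence degree from below
-/

set_option autoImplicit false
set_option linter.style.haveILetI false

universe u

open CategoryTheory CategoryTheory.Limits AlgebraicGeometry Opposite

namespace Groth.Agent.Sga7.H759.TrdClosure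

open Groth.Agent.Sga7.H759.IndAlg Groth.Agent.Sga7.H759.ResPt Groth.Agent.EtpbcA.Artin
open Groth.Agent.Sga7.H759.Trd

theorem resTrdegLE_of_comp {K : Type u} [Field K] {X W : Scheme.{u}} (f : X ⟶ Spec (CommRingCat.of K))
    (h : W ⟶ X) (w : W) (a : ℕ) (H : EtPBC.ResTrdegLE (h ≫ f) w a) : EtPBC.ResTrdegLE f (h w) a := by
  obtain ⟨φ, hφ⟩ := exists_resMap f (h w)
  have h2 : Spec.map (CommRingCat.ofHom ((h.residueFieldMap w).hom.comp φ)) =
      W.fromSpecResidueField w ≫ h ≫ f := by
    rw [← Category.assoc, ← Scheme.Hom.SpecMap_residueFieldMap_fromSpecResidueField, Category.assoc, ← hφ,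
      ← Spec.map_comp]
    rfl
  rw [resTrdegLE_iff (h ≫ f) w a _ h2] at H
  rw [resTrdegLE_iff f (h w) a φ hφ]
  refine le_trans ?_ H
  letI : Algebra K (X.residueField (h w)) := φ.toAlgebra
  letI : Algebra K (W.residueField w) := ((h.residueFieldMap w).hom.comp φ).toAlgebra
  exact _root_.trdeg_le_of_injective
    ({ (h.residueFieldMap w).hom with commutes' := fun _ => rfl } :
      (X.residueField (h w)) →ₐ[K] (W.residueField w)) (h.residueFieldMap w).hom.injective

/-- dimension of the closure of a point over a field -/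
theorem exists_subscheme {K : Type u} [Field K] {X : Scheme.{u}} (f : X ⟶ Spec (CommRingCat.of K))
    [LocallyOfFiniteType f] (x : X) (a : ℕ) (h : EtPBC.ResTrdegLE f x a) :
    ∃ (Z : Scheme.{u}) (i : Z ⟶ X) (_ : IsClosedImmersion i), x ∈ Set.range i ∧ topologicalKrullDim Z ≤ a := by
  let I := Scheme.IdealSheafData.vanishingIdeal (X := X) ⟨closure {x}, isClosed_closure⟩
  have hr : Set.range I.subschemeι = closure {x} := by
    rw [Scheme.IdealSheafData.range_subschemeι, Scheme.IdealSheafData.coe_support_vanishingIdeal]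
    rfl
  refine ⟨I.subscheme, I.subschemeι, inferInstance, ?_, ?_⟩
  · rw [hr]
    exact subset_closure rfl
  · rw [resTrdegLE_iff_dim K I.subscheme (I.subschemeι ≫ f) a]
    intro z
    refine (resTrdegLE_comp_iff f I.subschemeι z (algAt_of_surjectiveOnStalks _ _) a).2 ?_
    refine resTrdegLE_of_specializes f ?_ h
    rw [specializes_iff_mem_closure, ← hr]
    exact ⟨z, rfl⟩

theorem le_trdeg {V : Type u} [CommRing V] [IsLocalRing V] {X : Scheme.{u}}
    (f : X ⟶ Spec (CommRingCat.of V)) [LocallyOfFiniteType f] (x : X) (k : ℕ)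
    (hk : (k : WithBot ℕ∞) ≤ topologicalKrullDim ↥(closure ({x} : Set ↥X)))
    (F : Type u) [Field F] [Algebra (IsLocalRing.ResidueField V) F]
    (y : Spec (CommRingCat.of F) ⟶ X) (hyx : y default = x)
    (hy : y ≫ f = Spec.map (CommRingCat.ofHom (algebraMap (IsLocalRing.ResidueField V) F)) ≫
      Spec.map (CommRingCat.ofHom (IsLocalRing.residue V))) :
    (k : Cardinal.{u}) ≤ Algebra.trdeg (IsLocalRing.ResidueField V) F := by
  by_contra hlt
  rw [not_le] at hlt
  obtain ⟨c, hc⟩ := Cardinal.lt_aleph0.1 (hlt.trans Cardinal.natCast_lt_aleph0)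
  rw [hc] at hlt
  have hck : c < k := by exact_mod_cast hlt
  let g : Spec (CommRingCat.of (IsLocalRing.ResidueField V)) ⟶ Spec (CommRingCat.of V) :=
    Spec.map (CommRingCat.ofHom (IsLocalRing.residue V))
  have hg : IsClosedImmersion g :=
    IsClosedImmersion.spec_of_surjective _ IsLocalRing.residue_surjective
  let w : Spec (CommRingCat.of F) := default
  let y' : Spec (CommRingCat.of F) ⟶ pullback f g := pullback.lift _ _ hy
  have hy1 : y' ≫ pullback.fst f g = y := pullback.lift_fst _ _ _
  have hy2 : y' ≫ pullback.snd f g =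
      Spec.map (CommRingCat.ofHom (algebraMap (IsLocalRing.ResidueField V) F)) :=
    pullback.lift_snd _ _ _
  have h1 : EtPBC.ResTrdegLE (y' ≫ pullback.snd f g) w c := by
    rw [hy2]
    exact resTrdegLE_of_trdeg_le w c hc.le
  have h2 := resTrdegLE_of_comp (pullback.snd f g) y' w c h1
  obtain ⟨Z, i, hi, hxZ, hdim⟩ := exists_subscheme (pullback.snd f g) (y' w) c h2
  have hfst : IsClosedImmersion (pullback.fst f g) :=
    MorphismProperty.pullback_fst (P := @IsClosedImmersion) f g hg
  let p : Z ⟶ X := i ≫ pullback.fst f g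
  have hp : Topology.IsClosedEmbedding p := p.isClosedEmbedding
  have hsub : closure ({x} : Set X) ⊆ Set.range p := by
    refine (hp.isClosed_range.closure_subset_iff).2 ?_
    rw [Set.singleton_subset_iff]
    obtain ⟨z, hz⟩ := hxZ
    refine ⟨z, ?_⟩
    change (pullback.fst f g) (i z) = x
    rw [hz, ← Scheme.Hom.comp_apply, hy1]
    exact hyx
  choose q hq using fun c : closure ({x} : Set X) => hsub c.2
  have hind : Topology.IsInducing (p ∘ q) := by
    have : p ∘ q = Subtype.val := funext hq
    rw [this]
    exact Topology.IsInducing.subtypeVal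
  have hcont : Continuous q := by
    rw [hp.isInducing.continuous_iff]
    exact hind.continuous
  have hq' : Topology.IsInducing q := Topology.IsInducing.of_comp hcont hp.continuous hind
  have h3 := hk.trans (hq'.topologicalKrullDim_le.trans hdim)
  have h4 : k ≤ c := by exact_mod_cast h3
  omega

end Groth.Agent.Sga7.H759.TrdClosure
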