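import Groth.Agent.Sga7.H759.Base
import Groth.Agent.Sga7.H759.Step
import Groth.Agent.Sga7.H759.TrdClosure
import Groth.Agent.EtpbcB.TorsionBasic
import Groth.Prelude.Def_SGA7I
import Groth.Prelude.Def_Hensel
import Mathlib.RingTheory.Spectrum.Prime.Topology

/-!
# The refined bound on nearby cycles, from affine vanishing over separably closed fields

`refined`: the statement of S4079 for every sheaf killed by `m`, from `Artin.PK`.
-/

set_option autoImplicit false
set_option linter.style.haveILetI false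

universe u

open CategoryTheory CategoryTheory.Limits AlgebraicGeometry Opposite

namespace Groth.Agent.Sga7.H759.Final

open Groth.Agent.Sga7.H759.IndAlg Groth.Agent.EtpbcA Groth.Agent.Sga4h.NcAsm
open Groth.Agent.Sga7.H759.Step IsLocalRing
open Groth.Agent.CalgC.IndEtale (isIndEtale_of_isLocalization)

/-- affine vanishing over separably closed fields -/
def AffVan : Prop := ∀ (n : ℕ) (Ω : Type u) [Field Ω] [IsSepClosed Ω], Artin.PK Ω 0 n

theorem claim_all (hPK : AffVan.{u}) (m : ℕ) (hm : m ≠ 0) (k : ℕ) : Claim.{u} m k := by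
  induction k with
  | zero =>
    intro n R L _ _ _ _ hT B S _ _ _ _ _ _ _ _ _ hSH hS hk hd Y a b hY F hF i hi
    exact Base.base m n hm (hPK n) R L hT B S hS hd a b hY F hF i hi
  | succ k ih => exact step m k ih

theorem trait_sepClosure (V K Ω : Type u) [CommRing V] [IsDomain V] [IsDiscreteValuationRing V]
    [HenselianLocalRing V] [IsSepClosed (ResidueField V)] [Field K] [Algebra V K] [IsFractionRing V K]
    [Field Ω] [Algebra K Ω] [IsSepClosure K Ω] [Algebra V Ω] [IsScalarTower V K Ω]
    (m : ℕ) (hm : (m : ResidueField V) ≠ 0) : Trait m V Ω := by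
  have hmu : IsUnit (m : V) := by
    rw [← residue_ne_zero_iff_isUnit, map_natCast]
    exact hm
  have hcl : IsSepClosed Ω := IsSepClosure.sep_closed K
  refine ⟨inferInstance, inferInstance, ⟨inferInstance, inferInstance⟩, hmu,
    ⟨K, inferInstance, inferInstance, inferInstance, inferInstance, inferInstance,
      IsSepClosure.separable⟩, ?_⟩
  intro π hπ l hl hlm a
  have hlu : IsUnit (l : V) := by
    obtain ⟨c, rfl⟩ := hlm
    rw [Nat.cast_mul] at hmu
    exact isUnit_of_mul_isUnit_left hmu
  have h1 : IsUnit ((l ^ a : ℕ) : Ω) := by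
    have := (hlu.map (algebraMap V Ω)).pow a
    rwa [map_natCast, ← Nat.cast_pow] at this
  haveI : NeZero ((l ^ a : ℕ) : Ω) := ⟨h1.ne_zero⟩
  exact IsSepClosed.exists_pow_nat_eq (algebraMap V Ω π) (l ^ a)

theorem refined (hPK : AffVan.{u}) (V K Ω : Type u) [CommRing V] [IsDomain V] [IsDiscreteValuationRing V]
    [HenselianLocalRing V]
    [IsSepClosed (IsLocalRing.ResidueField V)] [Field K] [Algebra V K] [IsFractionRing V K]
    [Field Ω] [Algebra K Ω] [IsSepClosure K Ω] [Algebra V Ω] [IsScalarTower V K Ω]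
    (m : ℕ) (hm : (m : IsLocalRing.ResidueField V) ≠ 0)
    {X : Scheme.{u}} (f : X ⟶ Spec (CommRingCat.of V)) [LocallyOfFiniteType f] (n : ℕ)
    (hn : topologicalKrullDim ↥(pullback f (Spec.map (CommRingCat.ofHom (algebraMap V K)))) ≤ n)
    (x : ↥X) (hx : f.base x = IsLocalRing.closedPoint V) (k : ℕ) (hkn : k ≤ n)
    (hk : (k : WithBot ℕ∞) ≤ topologicalKrullDim ↥(closure ({x} : Set ↥X)))
    (Osh : Type u) [CommRing Osh] [IsLocalRing Osh] [Algebra ↑(X.presheaf.stalk x) Osh]
    [IsLocalHom (algebraMap ↑(X.presheaf.stalk x) Osh)] [Hensel.IsStrictHenselization ↑(X.presheaf.stalk x) Osh]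
    (F : EtCoh.Ab (SGA7.nearbyFibre f x Osh Ω)) (hF : EtCoh.KilledBy m F) (i : ℕ) (hi : n - k < i) :
    Subsingleton (EtCoh.H (SGA7.nearbyFibre f x Osh Ω) F i) := by
  have hm0 : m ≠ 0 := by
    rintro rfl
    exact hm Nat.cast_zero
  obtain ⟨U, hU, hxU, -⟩ := exists_isAffineOpen_mem_and_subset (x := x) (U := ⊤) trivial
  let B : Type u := Γ(X, U)
  let β : V →+* B := (Spec.preimage (hU.fromSpec ≫ f)).hom
  have hβ : hU.fromSpec ≫ f = Spec.map (CommRingCat.ofHom β) := by
    rw [CommRingCat.ofHom_hom, Spec.map_preimage]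
  letI a1 : Algebra V B := β.toAlgebra
  let st : Type u := X.presheaf.stalk x
  letI a2 : Algebra B st := (X.presheaf.germ U x hxU).hom.toAlgebra
  letI a3 : Algebra B Osh := ((algebraMap st Osh).comp (algebraMap B st)).toAlgebra
  haveI t1 : IsScalarTower B st Osh := IsScalarTower.of_algebraMap_eq fun _ => rfl
  letI a4 : Algebra V Osh := ((algebraMap B Osh).comp (algebraMap V B)).toAlgebra
  haveI t2 : IsScalarTower V B Osh := IsScalarTower.of_algebraMap_eq fun _ => rfl
  have hst : Spec.map (CommRingCat.ofHom (algebraMap B st)) ≫ hU.fromSpec = X.fromSpecStalk x :=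
    hU.fromSpecStalk_eq_fromSpecStalk hxU
  have hg : Spec.map (CommRingCat.ofHom (algebraMap ↑(X.presheaf.stalk x) Osh)) ≫ X.fromSpecStalk x ≫ f =
      Spec.map (CommRingCat.ofHom (algebraMap V Osh)) := by
    rw [← hst, Category.assoc, hβ, ← Spec.map_comp, ← Spec.map_comp]
    rfl
  haveI hft : Algebra.FiniteType V B := by
    have h1 : LocallyOfFiniteType (Spec.map (CommRingCat.ofHom (algebraMap V B))) := by
      change LocallyOfFiniteType (Spec.map (CommRingCat.ofHom β))
      rw [← hβ]
      infer_instance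
    rw [HasRingHomProperty.Spec_iff (P := @LocallyOfFiniteType)] at h1
    exact (RingHom.finiteType_algebraMap (A := V) (B := B)).1 h1
  haveI hloc : IsLocalization.AtPrime st (hU.primeIdealOf ⟨x, hxU⟩).asIdeal :=
    hU.isLocalization_stalk ⟨x, hxU⟩
  have hind : Groth.Agent.CalgC.IndEtale.IsIndEtale B Osh :=
    Groth.Agent.CalgC.IndEtale.IsInd.comp (B := st) Groth.Agent.CalgC.IndEtale.isGood_etale
      (isIndEtale_of_isLocalization (hU.primeIdealOf ⟨x, hxU⟩).asIdeal.primeCompl st)
      (Groth.Agent.Hensel.HenselPerm.lazardEtale_of_isStrictHenselization st Osh)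
  have hSH : EtCoh.IsStrictlyHenselianLocalRing Osh := by
    have h1 : HenselianLocalRing Osh := Hensel.IsStrictHenselization.henselian (↑(X.presheaf.stalk x) : Type u)
    have h2 : IsSepClosure (ResidueField (↑(X.presheaf.stalk x) : Type u)) (ResidueField Osh) :=
      Hensel.IsStrictHenselization.isSepClosure
    exact ⟨h1, h2.sep_closed⟩
  -- the closed point of `Spec Osh` goes to `x`
  have hcl1 : (Spec.map (CommRingCat.ofHom (algebraMap (↑(X.presheaf.stalk x) : Type u) Osh)) ≫
      X.fromSpecStalk x) (closedPoint Osh) = x := by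
    rw [Scheme.Hom.comp_apply]
    have h1 : Spec.map (CommRingCat.ofHom (algebraMap (↑(X.presheaf.stalk x) : Type u) Osh)) (closedPoint Osh) =
        closedPoint (X.presheaf.stalk x) := comap_closedPoint _
    rw [h1, Scheme.fromSpecStalk_closedPoint]
  haveI hlh : IsLocalHom (algebraMap V Osh) := by
    rw [isLocalHom_iff_comap_closedPoint]
    have h1 : Spec.map (CommRingCat.ofHom (algebraMap V Osh)) (closedPoint Osh) = closedPoint V := by
      rw [← hg, ← Category.assoc, Scheme.Hom.comp_apply, hcl1]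
      exact hx
    exact h1
  have htr : (k : Cardinal.{u}) ≤ Algebra.trdeg (ResidueField V) (ResidueField Osh) := by
    refine TrdClosure.le_trdeg f x k hk (ResidueField Osh)
      (Spec.map (CommRingCat.ofHom (residue Osh)) ≫
        Spec.map (CommRingCat.ofHom (algebraMap (↑(X.presheaf.stalk x) : Type u) Osh)) ≫ X.fromSpecStalk x) ?_ ?_
    · rw [Scheme.Hom.comp_apply]
      have h1 : Spec.map (CommRingCat.ofHom (residue Osh)) (default : Spec (CommRingCat.of (ResidueField Osh))) =
          closedPoint Osh := by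
        have h2 := comap_closedPoint (residue Osh)
        have h3 : (default : Spec (CommRingCat.of (ResidueField Osh))) = closedPoint (ResidueField Osh) :=
          Subsingleton.elim _ _
        rw [h3]
        exact h2
      rw [h1]
      exact hcl1
    · rw [Category.assoc, Category.assoc, hg, ← Spec.map_comp, ← Spec.map_comp]
      rfl
  have hgd : GenDimLE V B ((n - k) + k) := by
    rw [Nat.sub_add_cancel hkn]
    exact Trd.genDimLE_of_dim f n hn hU.fromSpec hβ
  have hpb : IsPullback
      (pullback.fst (Spec.map (CommRingCat.ofHom (algebraMap ↑(X.presheaf.stalk x) Osh)) ≫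
        X.fromSpecStalk x ≫ f) (Spec.map (CommRingCat.ofHom (algebraMap V Ω))))
      (pullback.snd (Spec.map (CommRingCat.ofHom (algebraMap ↑(X.presheaf.stalk x) Osh)) ≫
        X.fromSpecStalk x ≫ f) (Spec.map (CommRingCat.ofHom (algebraMap V Ω))))
      (Spec.map (CommRingCat.ofHom (algebraMap V Osh))) (Spec.map (CommRingCat.ofHom (algebraMap V Ω))) := by
    have h1 := IsPullback.of_hasPullback
      (Spec.map (CommRingCat.ofHom (algebraMap ↑(X.presheaf.stalk x) Osh)) ≫ X.fromSpecStalk x ≫ f)
      (Spec.map (CommRingCat.ofHom (algebraMap V Ω)))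
    exact hg ▸ h1
  exact claim_all hPK m hm0 k (n - k) V Ω (trait_sepClosure V K Ω m hm) B Osh hSH hind htr hgd _ _ hpb F hF i hi

/-- S4079 from affine vanishing -/
theorem refined_const (hPK : AffVan.{u}) (V K Ω : Type u) [CommRing V] [IsDomain V] [IsDiscreteValuationRing V]
    [HenselianLocalRing V]
    [IsSepClosed (IsLocalRing.ResidueField V)] [Field K] [Algebra V K] [IsFractionRing V K]
    [Field Ω] [Algebra K Ω] [IsSepClosure K Ω] [Algebra V Ω] [IsScalarTower V K Ω]
    (m : ℕ) (hm : (m : IsLocalRing.ResidueField V) ≠ 0)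
    {X : Scheme.{u}} (f : X ⟶ Spec (CommRingCat.of V)) [LocallyOfFiniteType f] (n : ℕ)
    (hn : topologicalKrullDim ↥(pullback f (Spec.map (CommRingCat.ofHom (algebraMap V K)))) ≤ n)
    (x : ↥X) (hx : f.base x = IsLocalRing.closedPoint V) (k : ℕ) (hkn : k ≤ n)
    (hk : (k : WithBot ℕ∞) ≤ topologicalKrullDim ↥(closure ({x} : Set ↥X)))
    (Osh : Type u) [CommRing Osh] [IsLocalRing Osh] [Algebra ↑(X.presheaf.stalk x) Osh]
    [IsLocalHom (algebraMap ↑(X.presheaf.stalk x) Osh)] [Hensel.IsStrictHenselization ↑(X.presheaf.stalk x) Osh]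
    (i : ℕ) (hi : n - k < i) :
    Subsingleton (EtCoh.H (SGA7.nearbyFibre f x Osh Ω)
      (EtCoh.const (SGA7.nearbyFibre f x Osh Ω) (ZMod m)) i) :=
  refined hPK V K Ω m hm f n hn x hx k hkn hk Osh _
    (Groth.Agent.EtpbcB.TorsionBasic.killedBy_const (ZMod m) m fun z => by
      rw [nsmul_eq_mul, ZMod.natCast_self, zero_mul]) i hi

end Groth.Agent.Sga7.H759.Final
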