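import Groth.Agent.Sga7.H759.BaseCd
import Groth.Agent.Sga4h.NcTransfer
import Groth.Agent.Sga4h.WildField
import Groth.Agent.Sga4h.NcAsmDefs
import Groth.Agent.Proet.IndEtale
import Groth.Agent.Etcore.Torsion

/-!
# Vanishing of the cohomology of `S ⊗_R L` above the dimension of the generic fibre

`R` strictly henselian DVR, `L` a root-closed separable algebraic extension of `Frac R`, `B` an `R`-algebra
of finite type with generic fibre of dimension `≤ n`, `S` an ind-etale `B`-algebra.
-/

set_option autoImplicit false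
set_option linter.style.haveILetI false

universe u

open CategoryTheory CategoryTheory.Limits AlgebraicGeometry Opposite TensorProduct

namespace Groth.Agent.Sga7.H759.Base

open Groth.Agent.Sga7.H759.IndAlg Groth.Agent.EtpbcA Groth.Agent.Sga4h.NcAsm
open Groth.Agent.Sga4h

theorem toPBC {A C : Type u} [CommRing A] [CommRing C] [Algebra A C]
    (h : Groth.Agent.CalgC.IndEtale.IsIndEtale A C) : EtPBC.IsIndEtale A C :=
  (Groth.Agent.Proet.IndEtale.isIndEtale_iff_factor A C).mpr (fun Z _ _ hZ g => by
    obtain ⟨E, j1, j2, j3, a, b, hab⟩ := h Z g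
    exact ⟨E, j1, j2, a, b, j3, hab⟩)

theorem isTorsion_of_killedBy {X : Scheme.{u}} {n : ℕ} (hn : n ≠ 0) {F : EtCoh.Ab X}
    (h : EtCoh.KilledBy n F) : EtCoh.IsTorsion F := fun U s x =>
  ⟨U, 𝟙 U, ⟨x, rfl⟩, by
    rw [op_id, F.obj.map_id]
    exact isOfFinAddOrder_iff_nsmul_eq_zero.2 ⟨n, Nat.pos_of_ne_zero hn, h U s⟩⟩

attribute [local instance] Algebra.TensorProduct.rightAlgebra in
/-- cohomological dimension of the geometric fibre -/
theorem cohDimLE_geom {n : ℕ} (R Ω : Type u) [CommRing R] [IsDomain R] [Field Ω] [Algebra R Ω]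
    (hPK : Artin.PK Ω 0 n) (hinj : Function.Injective (algebraMap R Ω)) [hΩ : Algebra.IsAlgebraic R Ω]
    (B S : Type u) [CommRing B] [Algebra R B] [Algebra.FiniteType R B] [CommRing S] [Algebra B S]
    [Algebra R S] [IsScalarTower R B S] (hS : Groth.Agent.CalgC.IndEtale.IsIndEtale B S)
    (hd : GenDimLE R B n) {Y : Scheme.{u}} (a : Y ⟶ Spec (CommRingCat.of S))
    (b : Y ⟶ Spec (CommRingCat.of Ω))
    (hY : IsPullback a b (Spec.map (CommRingCat.ofHom (algebraMap R S)))
      (Spec.map (CommRingCat.ofHom (algebraMap R Ω)))) :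
    EtCoh.CohDimLE Y n := by
  let A := Ω ⊗[R] B
  let C := A ⊗[B] S
  have hC : Groth.Agent.CalgC.IndEtale.IsIndEtale A C :=
    Groth.Agent.CalgC.IndEtale.IsInd.baseChange Groth.Agent.CalgC.IndEtale.isGood_etale hS A
  have h1 : EtCoh.CohDimLE (Spec (CommRingCat.of C)) n := by
    refine BaseCd.cohDimLE_of_isIndEtale hPK A C (toPBC hC) ?_
    intro E F _ _ _ _ _ _ _ _ _ hF
    refine GenDimLE.geom (R := R) (B := B) (A := A) (E := E) hinj ?_ ?_ hF hd
    · intro x
      induction x using TensorProduct.induction_on with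
      | zero => exact zero_mem _
      | add x y hx hy => exact add_mem hx hy
      | tmul ω b =>
        have h2 : (ω ⊗ₜ[R] b : A) = algebraMap Ω A ω * algebraMap B A b := by
          change _ = (ω ⊗ₜ[R] (1 : B)) * ((1 : Ω) ⊗ₜ[R] b)
          rw [Algebra.TensorProduct.tmul_mul_tmul, mul_one, one_mul]
        rw [h2]
        exact mul_mem (Algebra.subset_adjoin ⟨ω, rfl⟩) (Subalgebra.algebraMap_mem _ _)
    · exact Groth.Agent.CalgC.IndEtale.IsInd.of_self (Q := fun A E _ _ _ => Algebra.Etale A E)
        (inferInstance : Algebra.Etale A E)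
  -- the two cartesian squares
  have sq1 := isPullback_SpecMap_of_isPushout _ _ _ _ (CommRingCat.isPushout_tensorProduct B A S)
  have sq2 := isPullback_SpecMap_of_isPushout _ _ _ _ (CommRingCat.isPushout_tensorProduct R Ω B)
  have sq3 : IsPullback (Spec.map (CommRingCat.ofHom
        (Algebra.TensorProduct.includeRight : S →ₐ[B] C).toRingHom))
      (Spec.map (CommRingCat.ofHom (Algebra.TensorProduct.includeLeftRingHom : A →+* C)) ≫
        Spec.map (CommRingCat.ofHom (Algebra.TensorProduct.includeLeftRingHom : Ω →+* A)))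
      (Spec.map (CommRingCat.ofHom (algebraMap R S)))
      (Spec.map (CommRingCat.ofHom (algebraMap R Ω))) := by
    have h3 := sq1.flip.paste_vert sq2.flip
    have h4 : Spec.map (CommRingCat.ofHom (algebraMap B S)) ≫
        Spec.map (CommRingCat.ofHom (algebraMap R B)) =
        Spec.map (CommRingCat.ofHom (algebraMap R S)) := by
      rw [← Spec.map_comp, ← CommRingCat.ofHom_comp, ← IsScalarTower.algebraMap_eq]
    rw [h4] at h3
    exact h3
  let e : Spec (CommRingCat.of C) ≅ Y := sq3.isoIsPullback _ _ hY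
  exact CdExact.cohDimLE_of_iso e n h1

/-- **Base case.** -/
theorem base (m n : ℕ) (hm : m ≠ 0) (hPK : ∀ (Ω : Type u) [Field Ω] [IsSepClosed Ω], Artin.PK Ω 0 n)
    (R L : Type u) [CommRing R] [IsLocalRing R] [Field L] [Algebra R L] (hT : Trait m R L)
    (B S : Type u) [CommRing B] [Algebra R B] [Algebra.FiniteType R B] [CommRing S] [Algebra B S]
    [Algebra R S] [IsScalarTower R B S] (hS : Groth.Agent.CalgC.IndEtale.IsIndEtale B S)
    (hd : GenDimLE R B n) {Y : Scheme.{u}} (a : Y ⟶ Spec (CommRingCat.of S))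
    (b : Y ⟶ Spec (CommRingCat.of L))
    (hY : IsPullback a b (Spec.map (CommRingCat.ofHom (algebraMap R S)))
      (Spec.map (CommRingCat.ofHom (algebraMap R L))))
    (F : EtCoh.Ab Y) (hF : EtCoh.KilledBy m F) (i : ℕ) (hi : n < i) :
    Subsingleton (EtCoh.H Y F i) := by
  have hdom : IsDomain R := hT.isDomain
  have hDVR : IsDiscreteValuationRing R := hT.isDVR
  obtain ⟨K, _, _, _, _, _, hsep⟩ := hT.sep
  let Ω := SeparableClosure L
  have hL : ∀ (M : Type u) [Field M] [Algebra L M] [FiniteDimensional L M] [IsGalois L M],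
      (Module.finrank L M).Coprime m := by
    intro M _ _ _ _
    obtain ⟨π, hπ⟩ := IsDiscreteValuationRing.exists_irreducible R
    exact WildField.coprime_finrank R K L hT.isSH m hT.isUnit hπ
      (fun l hl hlm a => hT.root π hπ l hl hlm a) M
  let t : Spec (CommRingCat.of Ω) ⟶ Spec (CommRingCat.of L) :=
    Spec.map (CommRingCat.ofHom (algebraMap L Ω))
  let _ : Algebra R Ω := ((algebraMap L Ω).comp (algebraMap R L)).toAlgebra
  have : IsScalarTower R L Ω := IsScalarTower.of_algebraMap_eq fun _ => rfl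
  have hRL : Function.Injective (algebraMap R L) := by
    rw [IsScalarTower.algebraMap_eq R K L]
    exact (algebraMap K L).injective.comp (IsFractionRing.injective R K)
  have hinj : Function.Injective (algebraMap R Ω) := (algebraMap L Ω).injective.comp hRL
  have hKL : Algebra.IsAlgebraic K L := inferInstance
  have h0 : Algebra.IsAlgebraic R L := (IsFractionRing.comap_isAlgebraic_iff (A := R) (K := K) (C := L)).mpr hKL
  have hRΩ : Algebra.IsAlgebraic R Ω := Algebra.IsAlgebraic.trans R L Ω
  have sq : IsPullback (pullback.fst b t ≫ a) (pullback.snd b t)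
      (Spec.map (CommRingCat.ofHom (algebraMap R S)))
      (Spec.map (CommRingCat.ofHom (algebraMap R Ω))) := by
    have h1 := (IsPullback.of_hasPullback b t).paste_horiz hY
    have h2 : t ≫ Spec.map (CommRingCat.ofHom (algebraMap R L)) =
        Spec.map (CommRingCat.ofHom (algebraMap R Ω)) := by
      rw [← Spec.map_comp, ← CommRingCat.ofHom_comp]
    rw [h2] at h1
    exact h1
  have hcd : EtCoh.CohDimLE (pullback b t) n :=
    cohDimLE_geom R Ω (hPK Ω) hinj B S hS hd _ _ sq
  have haff : IsAffineHom b := MorphismProperty.of_isPullback (P := @IsAffineHom) hY inferInstance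
  have hpl : PreservesFiniteLimits (EtCoh.pull (pullback.fst b t)) := Groth.Agent.S0101.result _
  have hinj2 := NcTransfer.W2 L Ω m hL b (pullback.fst b t) (pullback.snd b t)
    (IsPullback.of_hasPullback b t) F hF i
  have hsub := hcd _ (Groth.Agent.Etcore.Torsion.isTorsion_pull (pullback.fst b t) F
    (isTorsion_of_killedBy hm hF)) i hi
  exact hinj2.subsingleton

end Groth.Agent.Sga7.H759.Base
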