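import Groth.Agent.Sga7.H759.ResPt
import Groth.Agent.S0149
import Groth.Agent.EtpbcA.CdExact
import Mathlib.AlgebraicGeometry.Limits

/-!
# Cohomological dimension of ind-etale algebras over an algebra of finite type over a field

`cohDimLE_of_isIndEtale`: if affine vanishing holds over the field `Ω` (`Artin.PK Ω 0 n`), `A` is an
`Ω`-algebra of finite type, `C` an ind-etale `A`-algebra and all the residue fields of the etale `A`-algebras
have transcendence degree at most `n` over `Ω`, then `cd (Spec C) ≤ n`.
-/

set_option autoImplicit false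
set_option linter.style.haveILetI false

universe u

open CategoryTheory CategoryTheory.Limits AlgebraicGeometry Opposite

namespace Groth.Agent.Sga7.H759.BaseCd

open Groth.Agent.Sga7.H759.IndAlg Groth.Agent.EtpbcA

theorem cohDimLE_etale {Ω : Type u} [Field Ω] {n : ℕ} (hPK : Artin.PK Ω 0 n)
    {A E : Type u} [CommRing A] [Algebra Ω A] [Algebra.FiniteType Ω A] [CommRing E] [Algebra A E]
    (hE : Algebra.Etale A E)
    (htr : ∀ (F : Type u) [Field F] [Algebra E F] [Algebra A F] [IsScalarTower A E F] [Algebra Ω F]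
      [IsScalarTower Ω A F], FracGen E F → Algebra.trdeg Ω F ≤ n) :
    EtCoh.CohDimLE (Spec (CommRingCat.of E)) n := by
  letI : Algebra Ω E := ((algebraMap A E).comp (algebraMap Ω A)).toAlgebra
  haveI : IsScalarTower Ω A E := IsScalarTower.of_algebraMap_eq fun _ => rfl
  haveI : Algebra.FiniteType A E := inferInstance
  haveI : Algebra.FiniteType Ω E := Algebra.FiniteType.trans (S := A) inferInstance inferInstance
  haveI : LocallyOfFiniteType (Spec.map (CommRingCat.ofHom (algebraMap Ω E))) := by
    rw [HasRingHomProperty.Spec_iff (P := @LocallyOfFiniteType)]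
    exact (RingHom.finiteType_algebraMap (A := Ω) (B := E)).2 inferInstance
  have h1 := hPK (Spec (CommRingCat.of E)) (Spec.map (CommRingCat.ofHom (algebraMap Ω E)))
    (fun x => ResPt.resTrdegLE_of_fracGen x n (fun F _ _ _ _ hF => by
      letI : Algebra A F := ((algebraMap E F).comp (algebraMap A E)).toAlgebra
      haveI : IsScalarTower A E F := IsScalarTower.of_algebraMap_eq fun _ => rfl
      haveI : IsScalarTower Ω A F := IsScalarTower.of_algebraMap_eq fun r => by
        rw [IsScalarTower.algebraMap_apply Ω E F, IsScalarTower.algebraMap_apply Ω A E,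
          ← IsScalarTower.algebraMap_apply A E F]
      exact htr F hF))
  simpa using h1

theorem cohDimLE_of_isIndEtale {Ω : Type u} [Field Ω] {n : ℕ} (hPK : Artin.PK Ω 0 n)
    (A C : Type u) [CommRing A] [Algebra Ω A] [Algebra.FiniteType Ω A] [CommRing C] [Algebra A C]
    (h : EtPBC.IsIndEtale A C)
    (htr : ∀ (E F : Type u) [CommRing E] [Algebra A E] [Algebra.Etale A E] [Field F] [Algebra E F]
      [Algebra A F] [IsScalarTower A E F] [Algebra Ω F]
      [IsScalarTower Ω A F], FracGen E F → Algebra.trdeg Ω F ≤ n) :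
    EtCoh.CohDimLE (Spec (CommRingCat.of C)) n := by
  obtain ⟨J, _, _, D, c, hc, hD, ⟨e⟩⟩ := h
  haveI hJ : IsConnected J := IsFiltered.isConnected J
  have hcol : IsColimit ((Under.forget (CommRingCat.of A)).mapCocone c) := isColimitOfPreserves _ hc
  have hlim : IsLimit (Scheme.Spec.mapCone ((Under.forget (CommRingCat.of A)).mapCocone c).op) :=
    isLimitOfPreserves Scheme.Spec hcol.op
  let ε : Spec (CommRingCat.of C) ≅ Spec c.pt.right :=
    Scheme.Spec.mapIso ((Under.forget _).mapIso e).op
  have haff : ∀ {i j : Jᵒᵖ} (a : i ⟶ j),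
      IsAffineHom (((D ⋙ Under.forget (CommRingCat.of A)).op ⋙ Scheme.Spec).map a) := fun a =>
    inferInstanceAs (IsAffineHom (Spec.map _))
  have hcomp : ∀ i : Jᵒᵖ, CompactSpace
      ((((D ⋙ Under.forget (CommRingCat.of A)).op ⋙ Scheme.Spec)).obj i) := fun i =>
    inferInstanceAs (CompactSpace (Spec _))
  have hqs : ∀ i : Jᵒᵖ, QuasiSeparatedSpace
      ((((D ⋙ Under.forget (CommRingCat.of A)).op ⋙ Scheme.Spec)).obj i) := fun i =>
    inferInstanceAs (QuasiSeparatedSpace (Spec _))
  have h1 := Groth.Agent.S0149.result _ _ hlim n (fun i => by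
    letI := (D.obj i.unop).hom.hom.toAlgebra
    have hE := hD i.unop
    exact cohDimLE_etale hPK hE (fun F _ _ _ _ _ _ hF => htr _ F hF))
  exact CdExact.cohDimLE_of_iso ε.symm n h1

end Groth.Agent.Sga7.H759.BaseCd
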