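import Groth.Agent.Sga7.H759.GoodNhdA
import Groth.Agent.Etbc.H223.SepFin

/-!
# Constructibility of the higher direct images of `ℤ/n` along open immersions, characteristic zero
-/

set_option autoImplicit false
universe u
open CategoryTheory CategoryTheory.Limits AlgebraicGeometry Opposite

namespace Groth.Agent.Sga7.H759.ConChar0

open GoodNhdA

theorem isTorsionInvertibleOn_const {K : Type u} [Field K] [CharZero K] (n : ℕ) [NeZero n] (X : Scheme.{u}) :
    EtPBC.IsTorsionInvertibleOn (Spec (CommRingCat.of K)) (EtCoh.const X (ZMod n)) := by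
  intro U s x
  refine ⟨U, 𝟙 U, n, ⟨x, rfl⟩, ?_, ?_⟩
  · have h1 : IsUnit (n : K) := IsUnit.mk0 _ (Nat.cast_ne_zero.2 (NeZero.ne n))
    have h2 := h1.map (Scheme.ΓSpecIso (CommRingCat.of K)).inv.hom
    rwa [map_natCast] at h2
  · rw [op_id, (EtCoh.const X (ZMod n)).obj.map_id]
    exact killedBy_const' X n U s

/-- Constructibility in characteristic zero. -/
theorem conQ (K : Type u) [Field K] [CharZero K] (n : ℕ) [NeZero n] : ConQ.{u} K n := by
  intro X D aX _ _ d _ b
  have hX : CompactSpace X := QuasiCompact.compactSpace_of_compactSpace aX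
  have hN : IsLocallyNoetherian X := LocallyOfFiniteType.isLocallyNoetherian aX
  have hN2 : IsNoetherian X := ⟨⟩
  have hq : QuasiCompact d := inferInstance
  exact Etbc.H223.SepFin.isConstructible_Rpush K (d ≫ aX) aX d rfl _
    (Etrest.ConstBasic.isConstructible_const D (ZMod n)) (isTorsionInvertibleOn_const n D) b

end Groth.Agent.Sga7.H759.ConChar0
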