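import Groth.Agent.Sga7.H759.IndAlg
import Groth.Agent.Sga4h.NcHull2
import Groth.Agent.Hensel.Exist
import Mathlib.FieldTheory.IntermediateField.Adjoin.Algebra

/-!
# Coordinates at a point of the special fibre and the hull of the affine line

`R` a discrete valuation ring, `B` an `R`-algebra, `S` a strictly henselian local ring, ind-etale over `B`
and local over `R`.

* `exists_coord`: if the residue field of `S` has transcendence degree `≥ 1` over that of `R`, some `t ∈ B`
  maps the closed point of `Spec S` to the generic point of the special fibre of the affine line.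
* `exists_hull_map`: then a strict henselization of `R[t]_(π)` maps to `S`.
* `le_trdeg_residue`: the transcendence degree of the residue fields drops by at most one.
* `one_le_trdeg_hull`
-/

set_option autoImplicit false
set_option linter.style.haveILetI false
set_option linter.unusedSectionVars false

universe u

open TensorProduct

namespace Groth.Agent.Sga7.H759.Coord

open IsLocalRing Polynomial Groth.Agent.Sga4h.NcHull Groth.Agent.CalgC.IndEtale
open Groth.Agent.Sga7.H759.IndAlg

theorem fracGen_residueField (S : Type u) [CommRing S] [IsLocalRing S] : FracGen S (ResidueField S) := by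
  intro z
  obtain ⟨s, rfl⟩ := residue_surjective z
  refine ⟨s, 1, ?_, ?_⟩
  · rw [map_one]; exact one_ne_zero
  · rw [map_one, mul_one]; rfl

section coord

variable {R B S : Type u} [CommRing R] [IsDomain R] [IsDiscreteValuationRing R] [CommRing B] [CommRing S]
  [IsLocalRing S] [Algebra R B] [Algebra B S] [Algebra R S] [IsScalarTower R B S]
  [IsLocalHom (algebraMap R S)]

theorem residue_aeval (t : S) (f : R[X]) :
    residue S (aeval t f) = aeval (residue S t) (f.map (residue R)) := by
  rw [aeval_def, aeval_def, eval₂_map, hom_eval₂]
  rfl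

/-- Existence of a coordinate. -/
theorem exists_coord (hS : IsIndEtale B S)
    (h1 : 1 ≤ Algebra.trdeg (ResidueField R) (ResidueField S)) :
    ∃ t : B, (maximalIdeal S).comap (aeval (algebraMap B S t) : R[X] →ₐ[R] S).toRingHom = P R := by
  by_contra hcon
  push Not at hcon
  letI : Algebra B (ResidueField S) := ((residue S).comp (algebraMap B S)).toAlgebra
  haveI : IsScalarTower B S (ResidueField S) := IsScalarTower.of_algebraMap_eq fun _ => rfl
  have halg : ∀ b : B, IsAlgebraic (ResidueField R) (algebraMap B (ResidueField S) b) := by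
    intro b
    have hne := hcon b
    have hle : P R ≤ (maximalIdeal S).comap (aeval (algebraMap B S b) : R[X] →ₐ[R] S).toRingHom := by
      change (maximalIdeal R).map C ≤ _
      rw [Ideal.map_le_iff_le_comap]
      intro a ha
      rw [Ideal.mem_comap, Ideal.mem_comap]
      change aeval (algebraMap B S b) (C a) ∈ _
      rw [aeval_C, mem_maximalIdeal]
      intro hu
      exact ((mem_maximalIdeal a).1 ha) (isUnit_of_map_unit (algebraMap R S) a hu)
    obtain ⟨f, hf, hfn⟩ := SetLike.exists_of_lt (lt_of_le_of_ne hle (Ne.symm hne))
    have hf' : f.map (residue R) ≠ 0 := by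
      intro h0
      apply hfn
      change f ∈ (maximalIdeal R).map C
      rw [Ideal.mem_map_C_iff]
      intro n
      have := congrArg (fun g => g.coeff n) h0
      simpa [coeff_map] using this
    refine ⟨f.map (residue R), hf', ?_⟩
    have h2 : residue S (aeval (algebraMap B S b) f) = 0 := by
      rw [residue_eq_zero_iff]
      exact hf
    rw [residue_aeval] at h2
    exact h2
  haveI := isAlgebraic_of_forall (κ := ResidueField R) (fracGen_residueField S) hS halg
  have h3 : Algebra.trdeg (ResidueField R) (ResidueField S) = 0 := _root_.trdeg_eq_zero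
  rw [h3] at h1
  exact absurd h1 (by simp)

/-- The map from the hull of the affine line. -/
theorem exists_hull_map (hSH : EtCoh.IsStrictlyHenselianLocalRing S) (t : S)
    (ht : (maximalIdeal S).comap (aeval t : R[X] →ₐ[R] S).toRingHom = P R) :
    ∃ (R' : Type u) (_ : CommRing R') (_ : IsLocalRing R') (_ : Algebra (O R) R')
      (_ : IsLocalHom (algebraMap (O R) R')) (_ : Hensel.IsStrictHenselization (O R) R')
      (γ : R' →+* S), IsLocalHom γ ∧
        ∀ f : R[X], γ (algebraMap (O R) R' (algebraMap R[X] (O R) f)) = aeval t f := by
  have hunit : ∀ y : (P R).primeCompl, IsUnit ((aeval t : R[X] →ₐ[R] S).toRingHom y) := by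
    intro y
    by_contra hcon
    exact y.2 (ht.le ((mem_maximalIdeal _).2 hcon))
  let ε : O R →+* S := IsLocalization.lift (M := (P R).primeCompl) hunit
  have hε : ∀ f : R[X], ε (algebraMap R[X] (O R) f) = aeval t f := fun f =>
    IsLocalization.lift_eq hunit f
  have hloc : IsLocalHom ε := by
    constructor
    intro a ha
    obtain ⟨x, s, rfl⟩ := IsLocalization.exists_mk'_eq (P R).primeCompl a
    rw [IsLocalization.AtPrime.isUnit_mk'_iff (O R) (P R) x s]
    intro hx
    have h1 : ε (IsLocalization.mk' (O R) x s) * ε (algebraMap R[X] (O R) s) = aeval t x := by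
      rw [← map_mul, IsLocalization.mk'_spec, hε]
    have h2 : IsUnit (aeval t x : S) := by
      rw [← h1]
      exact ha.mul (by rw [hε]; exact hunit s)
    have h3 : x ∈ (maximalIdeal S).comap (aeval t : R[X] →ₐ[R] S).toRingHom := by
      rw [ht]; exact hx
    exact ((mem_maximalIdeal _).1 h3) h2
  obtain ⟨R', i1, i2, i3, i4, i5, -⟩ :=
    Groth.Agent.Hensel.Exist.exists_isStrictHenselization (O R)
  obtain ⟨j1, j2⟩ := hSH
  letI : Algebra (ResidueField (O R)) (ResidueField S) := (ResidueField.map ε).toAlgebra
  have hsep := Hensel.IsStrictHenselization.isSepClosure (R := O R) (S := R')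
  haveI : Algebra.IsSeparable (ResidueField (O R)) (ResidueField R') := hsep.separable
  let τ : ResidueField R' →ₐ[ResidueField (O R)] ResidueField S := IsSepClosed.lift
  obtain ⟨g, ⟨hg1, hg2⟩, -⟩ := Hensel.IsStrictHenselization.universal (R := O R) (S := R') S ε
    τ.toRingHom (by
      apply RingHom.ext
      intro x
      exact τ.commutes x)
  refine ⟨R', i1, i2, i3, i4, i5, g, ⟨fun a ha => ?_⟩, fun f => ?_⟩
  · by_contra hcon
    have h1 : residue R' a = 0 := by
      rw [residue_eq_zero_iff]
      exact hcon
    have h2 := hg2 a
    rw [h1, map_zero, residue_eq_zero_iff] at h2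
    exact ((mem_maximalIdeal _).1 h2) ha
  · rw [← hε f, ← hg1]
    rfl

end coord

section hull

variable (R : Type u) [CommRing R] [IsDomain R] [IsDiscreteValuationRing R]
  (R' : Type u) [CommRing R'] [IsLocalRing R'] [Algebra (O R) R'] [IsLocalHom (algebraMap (O R) R')]
  [Hensel.IsStrictHenselization (O R) R'] [Algebra R R'] [IsScalarTower R (O R) R']
  [Algebra R[X] R'] [IsScalarTower R[X] (O R) R'] [IsScalarTower R R[X] R']

include R in
theorem injective_poly : Function.Injective (algebraMap R[X] R') := by
  rw [IsScalarTower.algebraMap_eq R[X] (O R) R']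
  have := Groth.Agent.Hensel.HenselPerm.faithfullyFlat_of_lazardEtale (O R) R'
    (Groth.Agent.Hensel.HenselPerm.lazardEtale_of_isStrictHenselization (O R) R')
  exact (FaithfulSMul.algebraMap_injective (O R) R').comp
    (IsLocalization.injective (O R) (P R).primeCompl_le_nonZeroDivisors)

theorem one_le_trdeg_hull [IsDomain R'] : 1 ≤ Algebra.trdeg R R' := by
  have h1 : Algebra.trdeg R R[X] = 1 := Polynomial.trdeg_of_isDomain
  rw [← h1]
  exact _root_.trdeg_le_of_injective (IsScalarTower.toAlgHom R R[X] R') (injective_poly R R')

open IntermediateField.algebraAdjoinAdjoin in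
theorem trdeg_residue_hull_le [IsLocalHom (algebraMap R R')] :
    Algebra.trdeg (ResidueField R) (ResidueField R') ≤ 1 := by
  letI : Algebra R[X] (ResidueField R') := ((residue R').comp (algebraMap R[X] R')).toAlgebra
  haveI : IsScalarTower R[X] R' (ResidueField R') := IsScalarTower.of_algebraMap_eq fun _ => rfl
  let x : ResidueField R' := residue R' (algebraMap R[X] R' X)
  let k := IntermediateField.adjoin (ResidueField R) ({x} : Set (ResidueField R'))
  have hk : ∀ f : R[X], IsAlgebraic k (algebraMap R[X] (ResidueField R') f) := by
    intro f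
    have h1 : algebraMap R[X] (ResidueField R') f = aeval x (f.map (residue R)) := by
      rw [← residue_aeval]
      change residue R' (algebraMap R[X] R' f) = _
      congr 1
      have h2 : (IsScalarTower.toAlgHom R R[X] R') = aeval (algebraMap R[X] R' X) := by
        apply Polynomial.algHom_ext
        simp
      exact congrArg (fun φ : R[X] →ₐ[R] R' => φ f) h2
    rw [h1]
    have h3 : aeval x (f.map (residue R)) ∈ k := by
      apply IntermediateField.algebra_adjoin_le_adjoin
      exact Polynomial.aeval_mem_adjoin_singleton _ _
    exact isAlgebraic_algebraMap (⟨_, h3⟩ : k)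
  haveI h4 : Algebra.IsAlgebraic k (ResidueField R') :=
    isAlgebraic_of_forall (fracGen_residueField R') (isIndEtale R R') hk
  haveI h5 : Algebra.IsAlgebraic (Algebra.adjoin (ResidueField R) ({x} : Set (ResidueField R')))
      (ResidueField R') :=
    (IsFractionRing.comap_isAlgebraic_iff
      (A := Algebra.adjoin (ResidueField R) ({x} : Set (ResidueField R'))) (K := k)
      (C := ResidueField R')).2 h4
  have h6 := Algebra.IsAlgebraic.trdeg_le_cardinalMk (R := ResidueField R) (s := ({x} : Set (ResidueField R')))
  rwa [Cardinal.mk_singleton] at h6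

theorem le_trdeg_residue [IsLocalHom (algebraMap R R')] (S : Type u) [CommRing S] [IsLocalRing S]
    [Algebra R S] [Algebra R' S]
    [IsScalarTower R R' S] [IsLocalHom (algebraMap R S)] [IsLocalHom (algebraMap R' S)] (k : ℕ)
    (h : ((k + 1 : ℕ) : Cardinal.{u}) ≤ Algebra.trdeg (ResidueField R) (ResidueField S)) :
    (k : Cardinal.{u}) ≤ Algebra.trdeg (ResidueField R') (ResidueField S) := by
  haveI : IsScalarTower (ResidueField R) (ResidueField R') (ResidueField S) :=
    .of_algebraMap_eq fun z => by
      obtain ⟨r, rfl⟩ := residue_surjective z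
      change residue S (algebraMap R S r) = residue S (algebraMap R' S (algebraMap R R' r))
      rw [← IsScalarTower.algebraMap_apply]
  have h1 := _root_.trdeg_add_eq (ResidueField R) (ResidueField R') (A := ResidueField S)
  rw [← h1] at h
  have h2 := h.trans (add_le_add_left (trdeg_residue_hull_le R R') _)
  rw [Nat.cast_add, Nat.cast_one, add_comm (k : Cardinal.{u})] at h2
  exact (Cardinal.add_le_add_iff_of_lt_aleph0 (Cardinal.one_lt_aleph0)).1
    (by rwa [add_comm _ (1 : Cardinal), add_comm _ (1 : Cardinal)])

end hull

end Groth.Agent.Sga7.H759.Coord
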