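import Groth.Agent.Sga7.H759.GoodNhdP
import Groth.Agent.Sga2lef.H93.ArtinQ

/-!
# Good neighbourhoods in characteristic zero
-/

set_option autoImplicit false
universe u
open CategoryTheory CategoryTheory.Limits AlgebraicGeometry Opposite

namespace Groth.Agent.Sga7.H759.GoodNhd

/-- The relative form of Artin's theorem. -/
theorem artinQ : GoodNhdA.ArtinQ.{u} :=
  fun K _ _ _ aX _ _ F hF a e ha z hz q f d _ hd b hb =>
    Groth.Agent.Sga2lef.H93.ArtinQ.not_mem_supp K aX F hF a e ha z hz q f d hd b hb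

/-- **Good neighbourhoods** on schemes of finite type over a field of characteristic zero. -/
theorem exists_nhd {K : Type u} [Field K] [CharZero K] (n : ℕ) [NeZero n]
    {X D : Scheme.{u}} (aX : X ⟶ Spec (CommRingCat.of K)) [LocallyOfFiniteType aX] [QuasiCompact aX]
    (q : ℕ) (f : Fin q → Γ(X, ⊤)) (d : D ⟶ X) [IsOpenImmersion d]
    (hd : Set.range d = ⋃ i, (X.basicOpen (f i) : Set X)) (z : X) (c : ℕ)
    (hc : ringKrullDim (X.presheaf.stalk z) ≤ c) :
    ∃ V : X.Opens, z ∈ V ∧ ∀ b, c + q ≤ b → ∀ x ∈ V, z ⤳ x →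
      x ∉ EtPBC.supp ((EtCoh.Rpush d b).obj (EtCoh.const D (ZMod n))) :=
  GoodNhdP.exists_nhd artinQ n aX q f d hd z c hc

/-- **Good neighbourhoods** on affine schemes of finite type over a field of characteristic zero. -/
theorem exists_open (K : Type u) [Field K] [CharZero K] (A : Type u) [CommRing A] [Algebra K A]
    [Algebra.FiniteType K A] (n : ℕ) [NeZero n] (q : ℕ) (F : Fin q → A) (z : Spec (CommRingCat.of A))
    (c : ℕ) (hc : z.asIdeal.height = c) (U : (Spec (CommRingCat.of A)).Opens)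
    (hU : ∀ x : Spec (CommRingCat.of A), x ∈ U ↔ ∃ i, F i ∉ x.asIdeal) :
    ∃ V : (Spec (CommRingCat.of A)).Opens, z ∈ V ∧ ∀ b, c + q ≤ b → ∀ x ∈ V, z ⤳ x →
      x ∉ EtPBC.supp ((EtCoh.Rpush U.ι b).obj (EtCoh.const _ (ZMod n))) :=
  GoodNhdP.exists_nhd_spec artinQ K A n q F z c hc U hU

end Groth.Agent.Sga7.H759.GoodNhd
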