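-- import Groth.Agent.EtpbcA.ColimNonGeneric
import Groth.Agent.EtpbcA.ArtinDim
import Groth.Agent.EtpbcA.ArtinSupp
import Groth.Agent.Etrest.FLCLocal
import Groth.Agent.Etrest.ConstBasic
import Groth.Agent.Etcore.Torsion
import Groth.Agent.EtpbcB.RDerLES
import Groth.Agent.EtpbcA.PullFLC

/-!
# Good neighbourhoods for the higher direct images along unions of principal open sets

Let `X` be of finite type over a field, `U = D(f_1) ∪ … ∪ D(f_q)` and `z` a point.  For a torsion sheaf `F` on `X`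
the stalk of `R^b (U → X)_* F` at `z` vanishes for `b ≥ dim O_z + q` (`not_mem_supp`, from the relative form of
Artin's theorem, taken as a hypothesis `ArtinQ`); if moreover the sheaves `R^b` are constructible there is one
open neighbourhood `V` of `z` such that the stalks vanish at all points of `V ∩ closure {z}` and all
`b ≥ dim O_z + q` (`exists_nhd`).
-/

set_option autoImplicit false
universe u
open CategoryTheory CategoryTheory.Limits AlgebraicGeometry Opposite

namespace Groth.Agent.Sga7.H759.GoodNhdA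

open Groth.Agent.EtpbcA.Artin Groth.Agent.VarietyB

/-- The relative form of Artin's theorem for a union of `q + 1` principal open sets. -/
def ArtinQ : Prop :=
  ∀ (K : Type u) [Field K] {X D : Scheme.{u}} (aX : X ⟶ Spec (CommRingCat.of K)) [LocallyOfFiniteType aX]
    [IsLocallyNoetherian X] (F : EtCoh.Ab X) (_ : EtCoh.IsTorsion F) (a e : ℕ)
    (_ : ∀ x, EtPBC.ResTrdegLE aX x a) (z : X) (_ : ∀ b, EtPBC.ResTrdegLE aX z b → e ≤ b) (q : ℕ)
    (f : Fin (q + 1) → Γ(X, ⊤)) (d : D ⟶ X) [IsOpenImmersion d]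
    (_ : Set.range d = ⋃ i, (X.basicOpen (f i) : Set X)) (b : ℕ) (_ : a + q < e + b),
    z ∉ EtPBC.supp ((EtCoh.Rpush d b).obj ((EtCoh.pull d).obj F))

/-- Constructibility of the higher direct images of finite constant sheaves along open immersions. -/
def ConQ (K : Type u) [Field K] (n : ℕ) : Prop :=
  ∀ {X D : Scheme.{u}} (aX : X ⟶ Spec (CommRingCat.of K)) [LocallyOfFiniteType aX] [QuasiCompact aX]
    (d : D ⟶ X) [IsOpenImmersion d] (b : ℕ),
    EtPBC.IsConstructible ((EtCoh.Rpush d b).obj (EtCoh.const D (ZMod n)))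

theorem add_one_le_of_lt {n : ℕ} {x : WithBot ℕ∞} (h : (n : WithBot ℕ∞) < x) :
    ((n + 1 : ℕ) : WithBot ℕ∞) ≤ x := by
  induction x using WithBot.recBotCoe with
  | bot => exact absurd h not_lt_bot
  | coe x =>
    have h1 : ((n : ℕ∞) : WithBot ℕ∞) < (x : WithBot ℕ∞) := h
    have h2 : (n : ℕ∞) < x := WithBot.coe_lt_coe.1 h1
    have h3 : ((n + 1 : ℕ) : ℕ∞) ≤ x := by
      push_cast
      exact Order.add_one_le_of_lt h2
    exact WithBot.coe_le_coe.2 h3

/-- An open neighbourhood of dimension `dim O_z + trdeg κ(z)`. -/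
theorem exists_open_dim {K : Type u} [Field K] {X : Scheme.{u}} (aX : X ⟶ Spec (CommRingCat.of K))
    [LocallyOfFiniteType aX] (z : X) (c : ℕ) (hc : ringKrullDim (X.presheaf.stalk z) ≤ c) :
    ∃ (V : X.Opens) (e : ℕ), z ∈ V ∧ (∀ b, EtPBC.ResTrdegLE aX z b → e ≤ b) ∧
      topologicalKrullDim (V : Set X) ≤ ((c + e : ℕ) : WithBot ℕ∞) := by
  let _ : X.Over (Spec (CommRingCat.of K)) := ⟨aX⟩
  have : LocallyOfFiniteType (X ↘ Spec (CommRingCat.of K)) := ‹LocallyOfFiniteType aX›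
  have h1 := DimSch.localDim_eq K z
  have h2 : FlatMor.localDim X z ≤ ((c + DimSch.trd K X z : ℕ) : WithBot ℕ∞) := by
    rw [h1]
    push_cast
    exact add_le_add_left hc _
  have h3 : ∃ V : {V : TopologicalSpace.Opens X // z ∈ V},
      topologicalKrullDim (V.1 : Set X) ≤ ((c + DimSch.trd K X z : ℕ) : WithBot ℕ∞) := by
    by_contra hcon
    push Not at hcon
    have h4 : ((c + DimSch.trd K X z + 1 : ℕ) : WithBot ℕ∞) ≤ FlatMor.localDim X z := by
      refine le_iInf fun V => ?_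
      exact add_one_le_of_lt (hcon V)
    have h5 := h4.trans h2
    have h6 : c + DimSch.trd K X z + 1 ≤ c + DimSch.trd K X z := by exact_mod_cast h5
    omega
  obtain ⟨V, hV⟩ := h3
  exact ⟨V.1, DimSch.trd K X z, V.2, fun b hb => (resTrdegLE_iff_trd K X z b).1 hb, hV⟩

theorem supp_Rpush_empty {X D : Scheme.{u}} (d : D ⟶ X) (hD : IsEmpty D) (F : EtCoh.Ab D) (b : ℕ) (x : X) :
    x ∉ EtPBC.supp ((EtCoh.Rpush d b).obj F) := by
  refine supp_eq_empty_of_isZero ?_ x
  have hadd : (EtCoh.Rpush d b).Additive := by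
    unfold EtCoh.Rpush
    infer_instance
  exact (EtCoh.Rpush d b).map_isZero ((isZero_iff F).2 (Set.eq_empty_of_forall_notMem fun y => hD.elim y))

/-- The stalk of `R^b` at `z` vanishes for `b ≥ dim O_z + q`. -/
theorem not_mem_supp (hA : ArtinQ.{u}) {K : Type u} [Field K] {X D : Scheme.{u}}
    (aX : X ⟶ Spec (CommRingCat.of K)) [LocallyOfFiniteType aX] (F : EtCoh.Ab X) (hF : EtCoh.IsTorsion F)
    (q : ℕ) (f : Fin q → Γ(X, ⊤)) (d : D ⟶ X) [IsOpenImmersion d]
    (hd : Set.range d = ⋃ i, (X.basicOpen (f i) : Set X)) (z : X) (c : ℕ)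
    (hc : ringKrullDim (X.presheaf.stalk z) ≤ c) (b : ℕ) (hb : c + q ≤ b) :
    z ∉ EtPBC.supp ((EtCoh.Rpush d b).obj ((EtCoh.pull d).obj F)) := by
  rcases q with _ | q
  · refine supp_Rpush_empty d ⟨fun y => ?_⟩ _ b z
    have : d y ∈ Set.range d := ⟨y, rfl⟩
    rw [hd] at this
    simp at this
  obtain ⟨V, e, hz, he, hV⟩ := exists_open_dim aX z c hc
  have hN : IsLocallyNoetherian X := LocallyOfFiniteType.isLocallyNoetherian aX
  have hdimV : ∀ x : V, EtPBC.ResTrdegLE (V.ι ≫ aX) x (c + e) :=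
    (resTrdegLE_iff_dim K V (V.ι ≫ aX) (c + e)).1 hV
  have hz' : ∀ b, EtPBC.ResTrdegLE (V.ι ≫ aX) (⟨z, hz⟩ : V) b → e ≤ b := by
    intro b h
    exact he b (((resTrdegLE_comp_iff aX V.ι (⟨z, hz⟩ : V) (algAt_of_surjectiveOnStalks _ _) b).1 h))
  let j' := pullback.fst d V.ι
  let g' := pullback.snd d V.ι
  have hpb : IsPullback j' g' d V.ι := IsPullback.of_hasPullback d V.ι
  have hg' : Set.range g' = ⋃ i, (Scheme.basicOpen V (V.ι.appTop (f i)) : Set V) := by
    have h1 : Set.range g' = V.ι ⁻¹' Set.range d := by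
      ext y
      constructor
      · rintro ⟨w, rfl⟩
        refine ⟨j' w, ?_⟩
        rw [← Scheme.Hom.comp_apply, ← Scheme.Hom.comp_apply, hpb.w]
      · rintro ⟨w, hw⟩
        obtain ⟨v, -, hv⟩ := Scheme.Pullback.exists_preimage_pullback (f := d) (g := V.ι) w y hw
        exact ⟨v, hv⟩
    rw [h1, hd, Set.preimage_iUnion]
    refine Set.iUnion_congr fun i => ?_
    have := Scheme.preimage_basicOpen_top V.ι (f i)
    exact congrArg (fun W : TopologicalSpace.Opens V => (W : Set V)) this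
  have h2 := hA K (V.ι ≫ aX) ((EtCoh.pull V.ι).obj F) (Etcore.Torsion.isTorsion_pull V.ι F hF) (c + e) e hdimV
    (⟨z, hz⟩ : V) hz' q (fun i => V.ι.appTop (f i)) g' hg' b (by omega)
  obtain ⟨e1⟩ := Etrest.FLCLocal.pull_Rpush_iso V.ι d j' g' hpb ((EtCoh.pull d).obj F) b
  intro h3
  refine h2 ?_
  have h4 : (⟨z, hz⟩ : V) ∈ EtPBC.supp ((EtCoh.pull V.ι).obj ((EtCoh.Rpush d b).obj ((EtCoh.pull d).obj F))) := by
    rw [supp_pull]
    exact h3
  rw [supp_congr e1] at h4
  have e2 : (EtCoh.pull j').obj ((EtCoh.pull d).obj F) ≅ (EtCoh.pull g').obj ((EtCoh.pull V.ι).obj F) :=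
    (EtpbcA.PullFLC.pullComp j' d).app F ≪≫ (EtpbcA.PullFLC.pullCongr hpb.w).app F ≪≫
      (EtpbcA.PullFLC.pullComp g' V.ι).symm.app F
  rwa [supp_congr ((EtCoh.Rpush g' b).mapIso e2)] at h4

theorem exists_stalk_dim_le {K : Type u} [Field K] {X : Scheme.{u}} (aX : X ⟶ Spec (CommRingCat.of K))
    [LocallyOfFiniteType aX] [QuasiCompact aX] :
    ∃ m : ℕ, ∀ x : X, ringKrullDim (X.presheaf.stalk x) ≤ m := by
  have hX : CompactSpace X := QuasiCompact.compactSpace_of_compactSpace aX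
  suffices ∃ m : ℕ, ∀ x ∈ (Set.univ : Set X), ringKrullDim (X.presheaf.stalk x) ≤ m by
    obtain ⟨m, hm⟩ := this
    exact ⟨m, fun x => hm x trivial⟩
  refine isCompact_univ.induction_on (p := fun s : Set X => ∃ m : ℕ, ∀ x ∈ s,
    ringKrullDim (X.presheaf.stalk x) ≤ m) ⟨0, by simp⟩ ?_ ?_ ?_
  · rintro s t hst ⟨m, hm⟩
    exact ⟨m, fun x hx => hm x (hst hx)⟩
  · rintro s t ⟨m, hm⟩ ⟨m', hm'⟩
    refine ⟨max m m', ?_⟩
    rintro x (hx | hx)
    · exact (hm x hx).trans (by exact_mod_cast le_max_left m m')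
    · exact (hm' x hx).trans (by exact_mod_cast le_max_right m m')
  · intro x _
    let _ : X.Over (Spec (CommRingCat.of K)) := ⟨aX⟩
    have : LocallyOfFiniteType (X ↘ Spec (CommRingCat.of K)) := ‹LocallyOfFiniteType aX›
    have hN : IsLocallyNoetherian X := LocallyOfFiniteType.isLocallyNoetherian aX
    have hfin : ∃ c : ℕ, ringKrullDim (X.presheaf.stalk x) ≤ c := by
      have h1 : ringKrullDim (X.presheaf.stalk x) ≠ ⊤ := ringKrullDim_lt_top.ne
      have h2 : ringKrullDim (X.presheaf.stalk x) ≠ ⊥ := ringKrullDim_ne_bot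
      generalize ringKrullDim (X.presheaf.stalk x) = y at h1 h2
      induction y using WithBot.recBotCoe with
      | bot => exact absurd rfl h2
      | coe y =>
        induction y using ENat.recTopCoe with
        | top => exact absurd rfl h1
        | coe y => exact ⟨y, le_rfl⟩
    obtain ⟨c, hc⟩ := hfin
    obtain ⟨V, e, hxV, -, hV⟩ := exists_open_dim aX x c hc
    refine ⟨V, mem_nhdsWithin_of_mem_nhds (V.2.mem_nhds hxV), c + e, fun y hy => ?_⟩
    have h3 : FlatMor.localDim X y ≤ ((c + e : ℕ) : WithBot ℕ∞) :=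
      (iInf_le (fun V : {V : TopologicalSpace.Opens X // y ∈ V} => topologicalKrullDim (V.1 : Set X))
        ⟨V, hy⟩).trans hV
    rw [DimSch.localDim_eq K y] at h3
    refine le_trans ?_ h3
    conv_lhs => rw [← add_zero (ringKrullDim (X.presheaf.stalk y))]
    gcongr
    exact_mod_cast Nat.zero_le _

def OpenQ : Prop := ∀ {X : Scheme.{u}} {F : EtCoh.Ab X} (_ : EtPBC.IsConstructible F) {x : X}
    (_ : x ∉ EtPBC.supp F), ∃ O : Set X, IsOpen O ∧ x ∈ O ∧ O ∩ closure {x} ⊆ (EtPBC.supp F)ᶜ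

theorem killedBy_const' (X : Scheme.{u}) (n : ℕ) : EtCoh.KilledBy n (EtCoh.const X (ZMod n)) :=
  Etrest.ConstBasic.killedBy_const X (ZMod n) n (fun x => by simp)

/-- **Good neighbourhoods.** -/
theorem exists_nhd (hO : OpenQ.{u}) (hA : ArtinQ.{u}) {K : Type u} [Field K] (n : ℕ) [NeZero n] (hC : ConQ.{u} K n)
    {X D : Scheme.{u}} (aX : X ⟶ Spec (CommRingCat.of K)) [LocallyOfFiniteType aX] [QuasiCompact aX]
    (q : ℕ) (f : Fin q → Γ(X, ⊤)) (d : D ⟶ X) [IsOpenImmersion d]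
    (hd : Set.range d = ⋃ i, (X.basicOpen (f i) : Set X)) (z : X) (c : ℕ)
    (hc : ringKrullDim (X.presheaf.stalk z) ≤ c) :
    ∃ V : X.Opens, z ∈ V ∧ ∀ b, c + q ≤ b → ∀ x ∈ V, z ⤳ x →
      x ∉ EtPBC.supp ((EtCoh.Rpush d b).obj (EtCoh.const D (ZMod n))) := by
  have hF : EtCoh.IsTorsion (EtCoh.const X (ZMod n)) :=
    Etrest.ConstBasic.isTorsion_of_killedBy (NeZero.pos n) (killedBy_const' X n)
  have key : ∀ (x : X) (c : ℕ), ringKrullDim (X.presheaf.stalk x) ≤ c → ∀ b, c + q ≤ b →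
      x ∉ EtPBC.supp ((EtCoh.Rpush d b).obj (EtCoh.const D (ZMod n))) := by
    intro x c hc b hb
    rw [← supp_congr ((EtCoh.Rpush d b).mapIso (EtCore.pullConst d (ZMod n)))]
    exact not_mem_supp hA aX _ hF q f d hd x c hc b hb
  obtain ⟨m, hm⟩ := exists_stalk_dim_le aX
  have step : ∀ N : ℕ, ∃ V : X.Opens, z ∈ V ∧ ∀ b < N, c + q ≤ b → ∀ x ∈ V, z ⤳ x →
      x ∉ EtPBC.supp ((EtCoh.Rpush d b).obj (EtCoh.const D (ZMod n))) := by
    intro N
    induction N with
    | zero => exact ⟨⊤, trivial, fun b hb => absurd hb (Nat.not_lt_zero b)⟩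
    | succ N ih =>
      obtain ⟨V, hzV, hV⟩ := ih
      by_cases hN : c + q ≤ N
      · obtain ⟨O, hOo, hzO, hO⟩ := hO (hC aX d N) (key z c hc N hN)
        refine ⟨V ⊓ ⟨O, hOo⟩, ⟨hzV, hzO⟩, fun b hb hcb x hx hzx => ?_⟩
        rcases Nat.lt_succ_iff_lt_or_eq.1 hb with h | rfl
        · exact hV b h hcb x hx.1 hzx
        · exact hO ⟨hx.2, hzx.mem_closure⟩
      · refine ⟨V, hzV, fun b hb hcb x hx hzx => ?_⟩
        rcases Nat.lt_succ_iff_lt_or_eq.1 hb with h | rfl
        · exact hV b h hcb x hx hzx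
        · exact absurd hcb hN
  obtain ⟨V, hzV, hV⟩ := step (m + q)
  refine ⟨V, hzV, fun b hb x hx hzx => ?_⟩
  by_cases h : b < m + q
  · exact hV b h hb x hx hzx
  · exact key x m (hm x) b (not_lt.1 h)

end Groth.Agent.Sga7.H759.GoodNhdA
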