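import Groth.Agent.Sga7.H759.GoodNhdA

/-!
# Good neighbourhoods on affine schemes of finite type over a field
-/

set_option autoImplicit false
universe u
open CategoryTheory CategoryTheory.Limits AlgebraicGeometry Opposite

namespace Groth.Agent.Sga7.H759.GoodNhdB

open GoodNhdA

theorem stalk_dim (A : CommRingCat.{u}) (z : Spec A) (c : ℕ) (hc : z.asIdeal.height = c) :
    ringKrullDim ((Spec A).presheaf.stalk z) ≤ c := by
  have h := IsLocalization.AtPrime.ringKrullDim_eq_height z.asIdeal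
    ((Spec.structureSheaf A).presheaf.stalk z)
  have h2 : ringKrullDim ((Spec A).presheaf.stalk z) = z.asIdeal.height := h
  rw [h2, hc]
  exact le_rfl

theorem exists_nhd_spec (hO : OpenQ.{u}) (hA : ArtinQ.{u}) {K : Type u} [Field K] (n : ℕ) [NeZero n]
    (hC : ConQ.{u} K n) (A : Type u) [CommRing A] [Algebra K A] [Algebra.FiniteType K A] (q : ℕ) (F : Fin q → A)
    (z : Spec (.of A)) (c : ℕ) (hc : z.asIdeal.height = c) (U : (Spec (.of A)).Opens)
    (hU : ∀ x : Spec (.of A), x ∈ U ↔ ∃ i, F i ∉ x.asIdeal) :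
    ∃ V : (Spec (.of A)).Opens, z ∈ V ∧ ∀ b, c + q ≤ b → ∀ x ∈ V, z ⤳ x →
      x ∉ EtPBC.supp ((EtCoh.Rpush U.ι b).obj (EtCoh.const _ (ZMod n))) := by
  let aX : Spec (.of A) ⟶ Spec (.of K) := Spec.map (CommRingCat.ofHom (algebraMap K A))
  have hft : LocallyOfFiniteType aX := by
    rw [HasRingHomProperty.Spec_iff (P := @LocallyOfFiniteType)]
    exact RingHom.finiteType_algebraMap.2 inferInstance
  refine exists_nhd hO hA n hC aX q (fun i => (Scheme.ΓSpecIso (.of A)).inv (F i)) U.ι ?_ z c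
    (stalk_dim (.of A) z c hc)
  ext x
  rw [Scheme.Opens.range_ι, Set.mem_iUnion]
  refine (hU x).trans (exists_congr fun i => ?_)
  rw [basicOpen_eq_of_affine]
  rfl

end Groth.Agent.Sga7.H759.GoodNhdB
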