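import Groth.Agent.CalgC.IndEtale
import Mathlib.RingTheory.AlgebraicIndependent.TranscendenceBasis
import Mathlib.RingTheory.Unramified.Finite
import Mathlib.RingTheory.Etale.Field
import Mathlib.RingTheory.Algebraic.Integral
import Mathlib.FieldTheory.IntermediateField.Algebraic
import Mathlib.FieldTheory.AlgebraicClosure

/-!
# Ind-etale algebras and transcendence degrees

* `isIntegral_of_isIndEtale`: `B → S` ind-etale, `B → k → F`, `S → F` fields: images of elements of `S` are
  integral over `k`.
* `FracGen B F`: the field `F` is the fraction field of the image of `B`.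
* `GenDimLE R B d`: for the fields `F = Frac (B ⧸ P)`, `P` a prime of `B` with `R → F` injective, the
  transcendence degree of `F` over `R` is at most `d` (dimension of the generic fibre of `B` over `R`).
* `GenDimLE.drop`, `GenDimLE.geom`.
-/

set_option autoImplicit false
set_option linter.style.haveILetI false

universe u

open TensorProduct

namespace Groth.Agent.Sga7.H759.IndAlg

open Groth.Agent.CalgC.IndEtale

section integral

variable {B S F k : Type u} [CommRing B] [CommRing S] [Field F] [Field k] [Algebra B S] [Algebra S F]
  [Algebra B F] [IsScalarTower B S F] [Algebra B k] [Algebra k F] [IsScalarTower B k F]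

theorem isIntegral_of_isIndEtale (h : IsIndEtale B S) (s : S) : IsIntegral k (algebraMap S F s) := by
  obtain ⟨E, _, _, hE, ψ, χ, hχ⟩ := h (Polynomial B) (Polynomial.aeval s)
  have hs : χ (ψ Polynomial.X) = s := by
    rw [← AlgHom.comp_apply, hχ, Polynomial.aeval_X]
  have hfin : Module.Finite k (k ⊗[B] E) := Algebra.FormallyUnramified.finite_of_free k (k ⊗[B] E)
  let χF : E →ₐ[B] F := (IsScalarTower.toAlgHom B S F).comp χ
  let g : k ⊗[B] E →ₐ[k] F := Algebra.TensorProduct.lift (Algebra.ofId k F) χF
    (fun _ _ => Commute.all _ _)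
  have h1 : IsIntegral k ((1 : k) ⊗ₜ[B] (ψ Polynomial.X)) := Algebra.IsIntegral.isIntegral _
  have h2 := h1.map g
  have h3 : g ((1 : k) ⊗ₜ[B] (ψ Polynomial.X)) = algebraMap S F s := by
    simp only [g, Algebra.TensorProduct.lift_tmul, map_one, one_mul]
    change algebraMap S F (χ (ψ Polynomial.X)) = _
    rw [hs]
  rwa [h3] at h2

end integral

/-- The field `F` is generated by the image of `B`. -/
def FracGen (B F : Type u) [CommRing B] [Field F] [Algebra B F] : Prop :=
  ∀ z : F, ∃ a b : B, algebraMap B F b ≠ 0 ∧ z * algebraMap B F b = algebraMap B F a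

section fracGen

variable {B S F k : Type u} [CommRing B] [CommRing S] [Field F] [Field k] [Algebra B S] [Algebra S F]
  [Algebra B F] [IsScalarTower B S F] [Algebra B k] [Algebra k F] [IsScalarTower B k F]

theorem FracGen.isAlgebraic (hF : FracGen S F) (h : ∀ s : S, IsIntegral k (algebraMap S F s)) :
    Algebra.IsAlgebraic k F := by
  refine ⟨fun z => ?_⟩
  obtain ⟨a, b, hb, hz⟩ := hF z
  have h1 : z = algebraMap S F a * (algebraMap S F b)⁻¹ := by
    rw [← hz, mul_assoc, mul_inv_cancel₀ hb, mul_one]
  rw [h1]
  exact ((h a).mul (h b).inv).isAlgebraic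

theorem FracGen.isAlgebraic_of_isIndEtale (hF : FracGen S F) (h : IsIndEtale B S) :
    Algebra.IsAlgebraic k F :=
  hF.isAlgebraic fun s => isIntegral_of_isIndEtale h s

end fracGen

section imField

variable (B F : Type u) [CommRing B] [Field F] [Algebra B F]

/-- The subfield generated by the image of `B`. -/
abbrev imField : Subfield F := Subfield.closure (Set.range (algebraMap B F))

theorem algebraMap_mem_imField (b : B) : algebraMap B F b ∈ imField B F :=
  Subfield.subset_closure ⟨b, rfl⟩

/-- The structure of `B`-algebra on the subfield generated by the image of `B`. -/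
noncomputable abbrev algImField : Algebra B (imField B F) :=
  ((algebraMap B F).codRestrict (imField B F) (algebraMap_mem_imField B F)).toAlgebra

theorem fracGen_imField : letI := algImField B F; FracGen B (imField B F) := by
  letI := algImField B F
  have hcl : ∀ y : F, y ∈ Subring.closure (Set.range (algebraMap B F)) → ∃ a : B, algebraMap B F a = y := by
    intro y hy
    have h1 : Subring.closure (Set.range (algebraMap B F)) = (algebraMap B F).range := by
      rw [← RingHom.coe_range]
      exact Subring.closure_eq _
    rw [h1] at hy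
    exact hy
  rintro ⟨z, hz⟩
  rw [Subfield.mem_closure_iff] at hz
  obtain ⟨y, hy, x, hx, hyx⟩ := hz
  obtain ⟨a, ha⟩ := hcl y hy
  obtain ⟨b, hb⟩ := hcl x hx
  by_cases h0 : x = 0
  · refine ⟨0, 1, ?_, ?_⟩
    · rw [map_one]; exact one_ne_zero
    · rw [h0, div_zero] at hyx
      rw [map_one, mul_one, map_zero]
      exact Subtype.ext hyx.symm
  · refine ⟨a, b, ?_, ?_⟩
    · intro h1
      have h2 := congrArg (Subtype.val : imField B F → F) h1
      change algebraMap B F b = 0 at h2
      exact h0 (hb ▸ h2)
    · apply Subtype.ext
      change z * algebraMap B F b = algebraMap B F a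
      rw [ha, hb, ← hyx, div_mul_cancel₀ _ h0]

end imField

/-- The dimension of the generic fibre of `B` over `R` is at most `d`. -/
def GenDimLE (R B : Type u) [CommRing R] [CommRing B] [Algebra R B] (d : ℕ) : Prop :=
  ∀ (F : Type u) [Field F] [Algebra R F] [Algebra B F] [IsScalarTower R B F],
    Function.Injective (algebraMap R F) → FracGen B F → Algebra.trdeg R F ≤ d

section genDim

theorem trdeg_eq_of_isAlgebraic {R : Type u} {k : Type u} {F : Type u} [CommRing R] [Nontrivial R] [Field k] [Field F]
    [Algebra R k] [Algebra k F] [Algebra R F] [IsScalarTower R k F]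
    (hinj : Function.Injective (algebraMap R k)) [Algebra.IsAlgebraic k F] :
    Algebra.trdeg R F = Algebra.trdeg R k := by
  have : FaithfulSMul R k := (faithfulSMul_iff_algebraMap_injective _ _).2 hinj
  have h1 := _root_.trdeg_add_eq R k (A := F)
  have h2 : Algebra.trdeg k F = 0 := _root_.trdeg_eq_zero
  rw [h2, add_zero] at h1
  exact h1.symm

/-- The bound for fields algebraic over the field generated by the image of `B`. -/
theorem GenDimLE.trdeg_le {R B : Type u} [CommRing R] [IsDomain R] [CommRing B] [Algebra R B] {d : ℕ}
    (h : GenDimLE R B d) (F : Type u) [Field F] [Algebra R F] [Algebra B F] [IsScalarTower R B F]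
    (hinj : Function.Injective (algebraMap R F)) [halg : Algebra.IsAlgebraic (imField B F) F] :
    Algebra.trdeg R F ≤ d := by
  letI := algImField B F
  letI : Algebra R (imField B F) := ((algebraMap B (imField B F)).comp (algebraMap R B)).toAlgebra
  haveI : IsScalarTower R B (imField B F) := IsScalarTower.of_algebraMap_eq fun _ => rfl
  haveI : IsScalarTower R (imField B F) F := IsScalarTower.of_algebraMap_eq fun r =>
    IsScalarTower.algebraMap_apply R B F r
  have hinj' : Function.Injective (algebraMap R (imField B F)) := by
    intro a b hab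
    apply hinj
    rw [IsScalarTower.algebraMap_apply R (imField B F) F, hab, ← IsScalarTower.algebraMap_apply]
  rw [trdeg_eq_of_isAlgebraic (k := imField B F) hinj']
  exact h (imField B F) hinj' (fracGen_imField B F)

/-- Dimension drop. -/
theorem GenDimLE.drop {R R' B B' : Type u} [CommRing R] [IsDomain R] [CommRing R'] [IsDomain R']
    [CommRing B] [CommRing B'] [Algebra R R'] [Algebra R B] [Algebra R' B'] [Algebra B B'] [Algebra R B']
    [IsScalarTower R R' B'] [IsScalarTower R B B'] (hinj : Function.Injective (algebraMap R R'))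
    (h1 : 1 ≤ Algebra.trdeg R R') (hB : IsIndEtale B B') {d : ℕ} (h : GenDimLE R B (d + 1)) :
    GenDimLE R' B' d := by
  intro F _ _ _ _ hF hgen
  letI : Algebra B F := ((algebraMap B' F).comp (algebraMap B B')).toAlgebra
  haveI : IsScalarTower B B' F := IsScalarTower.of_algebraMap_eq fun _ => rfl
  letI : Algebra R F := ((algebraMap R' F).comp (algebraMap R R')).toAlgebra
  haveI : IsScalarTower R R' F := IsScalarTower.of_algebraMap_eq fun _ => rfl
  haveI : IsScalarTower R B F := IsScalarTower.of_algebraMap_eq fun r => by
    rw [IsScalarTower.algebraMap_apply R R' F, IsScalarTower.algebraMap_apply R' B' F,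
      IsScalarTower.algebraMap_apply B B' F, ← IsScalarTower.algebraMap_apply R R' B',
      ← IsScalarTower.algebraMap_apply R B B']
  have hRF : Function.Injective (algebraMap R F) := by
    rw [IsScalarTower.algebraMap_eq R R' F]
    exact hF.comp hinj
  letI := algImField B F
  haveI : IsScalarTower B (imField B F) F := IsScalarTower.of_algebraMap_eq fun _ => rfl
  haveI : Algebra.IsAlgebraic (imField B F) F := hgen.isAlgebraic_of_isIndEtale hB
  have h2 := h.trdeg_le F hRF
  haveI : FaithfulSMul R R' := (faithfulSMul_iff_algebraMap_injective _ _).2 hinj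
  haveI : FaithfulSMul R' F := (faithfulSMul_iff_algebraMap_injective _ _).2 hF
  have h3 := _root_.trdeg_add_eq R R' (A := F)
  rw [← h3] at h2
  have h4 : (1 : Cardinal.{u}) + Algebra.trdeg R' F ≤ ((d + 1 : ℕ) : Cardinal.{u}) :=
    (add_le_add_left h1 _).trans h2
  rw [Nat.cast_add, Nat.cast_one, add_comm (d : Cardinal.{u})] at h4
  exact (Cardinal.add_le_add_iff_of_lt_aleph0 (Cardinal.one_lt_aleph0)).1
    (by rwa [add_comm _ (1 : Cardinal), add_comm _ (1 : Cardinal)])

/-- Geometric generic fibre. -/
theorem GenDimLE.geom {R B Ω A E F : Type u} [CommRing R] [IsDomain R] [CommRing B] [Algebra R B]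
    [Field Ω] [Algebra R Ω] (hinj : Function.Injective (algebraMap R Ω)) [hΩ : Algebra.IsAlgebraic R Ω]
    [CommRing A] [Algebra R A] [Algebra B A] [Algebra Ω A] [IsScalarTower R B A] [IsScalarTower R Ω A]
    (hA : ∀ a : A, a ∈ Algebra.adjoin B (Set.range (algebraMap Ω A)))
    [CommRing E] [Algebra A E] (hE : IsIndEtale A E) [Field F] [Algebra E F] [Algebra A F]
    [IsScalarTower A E F] [Algebra Ω F] [IsScalarTower Ω A F] (hF : FracGen E F) {d : ℕ}
    (h : GenDimLE R B d) : Algebra.trdeg Ω F ≤ d := by
  letI : Algebra B F := ((algebraMap A F).comp (algebraMap B A)).toAlgebra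
  haveI : IsScalarTower B A F := IsScalarTower.of_algebraMap_eq fun _ => rfl
  letI : Algebra R F := ((algebraMap Ω F).comp (algebraMap R Ω)).toAlgebra
  haveI : IsScalarTower R Ω F := IsScalarTower.of_algebraMap_eq fun _ => rfl
  haveI : IsScalarTower R B F := IsScalarTower.of_algebraMap_eq fun r => by
    rw [IsScalarTower.algebraMap_apply R Ω F, IsScalarTower.algebraMap_apply Ω A F,
      IsScalarTower.algebraMap_apply B A F, ← IsScalarTower.algebraMap_apply R Ω A,
      ← IsScalarTower.algebraMap_apply R B A]
  have hRF : Function.Injective (algebraMap R F) := by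
    rw [IsScalarTower.algebraMap_eq R Ω F]
    exact (algebraMap Ω F).injective.comp hinj
  -- the algebraic closure of the field generated by the image of `B`
  let k := algebraicClosure (imField B F) F
  have hRk : ∀ ω : Ω, algebraMap Ω F ω ∈ k := by
    intro ω
    rw [mem_algebraicClosure_iff]
    have h1 : IsAlgebraic R ω := Algebra.IsAlgebraic.isAlgebraic ω
    have h2 : IsAlgebraic R (algebraMap Ω F ω) := h1.algebraMap
    letI := algImField B F
    letI : Algebra R (imField B F) := ((algebraMap B (imField B F)).comp (algebraMap R B)).toAlgebra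
    haveI : IsScalarTower R (imField B F) F := IsScalarTower.of_algebraMap_eq fun r =>
      IsScalarTower.algebraMap_apply R B F r
    have hinj' : Function.Injective (algebraMap R (imField B F)) := by
      intro a b hab
      apply hRF
      rw [IsScalarTower.algebraMap_apply R (imField B F) F, hab, ← IsScalarTower.algebraMap_apply]
    exact (h2.extendScalars hinj')
  have hAk : ∀ a : A, algebraMap A F a ∈ k := by
    intro a
    have ha := hA a
    induction ha using Algebra.adjoin_induction with
    | mem x hx =>
      obtain ⟨ω, rfl⟩ := hx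
      rw [← IsScalarTower.algebraMap_apply]
      exact hRk ω
    | algebraMap b =>
      rw [← IsScalarTower.algebraMap_apply]
      exact k.algebraMap_mem ⟨_, algebraMap_mem_imField B F b⟩
    | add x y _ _ hx hy => rw [map_add]; exact k.add_mem hx hy
    | mul x y _ _ hx hy => rw [map_mul]; exact k.mul_mem hx hy
  letI : Algebra A k := ((algebraMap A F).codRestrict k hAk).toAlgebra
  haveI : IsScalarTower A k F := IsScalarTower.of_algebraMap_eq fun _ => rfl
  haveI : Algebra.IsAlgebraic k F := hF.isAlgebraic_of_isIndEtale hE
  haveI : Algebra.IsAlgebraic (imField B F) k := algebraicClosure.isAlgebraic _ _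
  haveI : Algebra.IsAlgebraic (imField B F) F := Algebra.IsAlgebraic.trans (imField B F) k F
  have h2 := h.trdeg_le F hRF
  haveI : FaithfulSMul R Ω := (faithfulSMul_iff_algebraMap_injective _ _).2 hinj
  have h3 := _root_.trdeg_add_eq R Ω (A := F)
  have h4 : Algebra.trdeg R Ω = 0 := _root_.trdeg_eq_zero
  rw [h4, zero_add] at h3
  rwa [← h3] at h2

end genDim

section algClosureIn

variable {B S F κ : Type u} [CommRing B] [CommRing S] [Field F] [Field κ] [Algebra B S] [Algebra S F]
  [Algebra B F] [IsScalarTower B S F] [Algebra κ F]

/-- If the image of `B` is algebraic over `κ`, so is the field generated by the ind-etale algebra `S`. -/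
theorem isAlgebraic_of_forall (hF : FracGen S F) (hS : IsIndEtale B S)
    (h : ∀ b : B, IsAlgebraic κ (algebraMap B F b)) : Algebra.IsAlgebraic κ F := by
  let k := algebraicClosure κ F
  have hBk : ∀ b : B, algebraMap B F b ∈ k := fun b => (mem_algebraicClosure_iff).2 (h b)
  letI : Algebra B k := ((algebraMap B F).codRestrict k hBk).toAlgebra
  haveI : IsScalarTower B k F := IsScalarTower.of_algebraMap_eq fun _ => rfl
  haveI : Algebra.IsAlgebraic k F := hF.isAlgebraic_of_isIndEtale hS
  haveI : Algebra.IsAlgebraic κ k := algebraicClosure.isAlgebraic _ _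
  exact Algebra.IsAlgebraic.trans κ k F

end algClosureIn

end Groth.Agent.Sga7.H759.IndAlg
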