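import Groth.Agent.Sga7.H759.IndAlg
import Groth.Agent.EtpbcA.ArtinDefs

/-!
# Residue fields of points of spectra and `EtPBC.ResTrdegLE`
-/

set_option autoImplicit false
set_option linter.style.haveILetI false

universe u

open CategoryTheory CategoryTheory.Limits AlgebraicGeometry Opposite

namespace Groth.Agent.Sga7.H759.ResPt

open Groth.Agent.Sga7.H759.IndAlg

/-- the map from `E` to the residue field at a point of `Spec E` -/
noncomputable def toRes (E : Type u) [CommRing E] (x : Spec (CommRingCat.of E)) :
    E →+* (Spec (CommRingCat.of E)).residueField x :=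
  ((Spec (CommRingCat.of E)).residue x).hom.comp (StructureSheaf.toStalk E x).hom

theorem specMap_toRes (E : Type u) [CommRing E] (x : Spec (CommRingCat.of E)) :
    Spec.map (CommRingCat.ofHom (toRes E x)) = (Spec (CommRingCat.of E)).fromSpecResidueField x := by
  have h1 : (Spec (CommRingCat.of E)).fromSpecStalk x = Spec.map (StructureSheaf.toStalk E x) :=
    Spec.fromSpecStalk_eq' _ x
  have h2 : CommRingCat.ofHom (toRes E x) =
      StructureSheaf.toStalk E x ≫ (Spec (CommRingCat.of E)).residue x := rfl
  rw [h2, Spec.map_comp, ← h1]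
  rfl

theorem fracGen_toRes (E : Type u) [CommRing E] (x : Spec (CommRingCat.of E)) :
    letI := (toRes E x).toAlgebra; FracGen E ((Spec (CommRingCat.of E)).residueField x) := by
  let _ : Algebra E ((Spec (CommRingCat.of E)).residueField x) := (toRes E x).toAlgebra
  let _ : Algebra E ↑((Spec (CommRingCat.of E)).presheaf.stalk x) :=
    StructureSheaf.stalkAlgebra E x
  have hloc : IsLocalization.AtPrime (↑((Spec (CommRingCat.of E)).presheaf.stalk x)) x.asIdeal :=
    StructureSheaf.IsLocalization.to_stalk E x
  intro z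
  obtain ⟨z, rfl⟩ := (Spec (CommRingCat.of E)).residue_surjective x z
  obtain ⟨⟨r, s⟩, hrs⟩ := IsLocalization.surj x.asIdeal.primeCompl z
  refine ⟨r, s.1, ?_, ?_⟩
  · have h1 : IsUnit (algebraMap E ↑((Spec (CommRingCat.of E)).presheaf.stalk x) s.1) :=
      IsLocalization.map_units _ s
    have h2 := h1.map ((Spec (CommRingCat.of E)).residue x).hom
    exact h2.ne_zero
  · have h1 := congrArg ((Spec (CommRingCat.of E)).residue x).hom hrs
    rw [map_mul] at h1
    exact h1

theorem resTrdegLE_of_fracGen {Ω E : Type u} [Field Ω] [CommRing E] [Algebra Ω E]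
    (x : Spec (CommRingCat.of E)) (n : ℕ)
    (h : ∀ (F : Type u) [Field F] [Algebra E F] [Algebra Ω F] [IsScalarTower Ω E F],
      FracGen E F → Algebra.trdeg Ω F ≤ n) :
    EtPBC.ResTrdegLE (Spec.map (CommRingCat.ofHom (algebraMap Ω E))) x n := by
  refine ⟨(toRes E x).comp (algebraMap Ω E), ?_, ?_⟩
  · rw [CommRingCat.ofHom_comp, Spec.map_comp, specMap_toRes]
  · let _ : Algebra E ((Spec (CommRingCat.of E)).residueField x) := (toRes E x).toAlgebra
    let _ : Algebra Ω ((Spec (CommRingCat.of E)).residueField x) :=
      ((toRes E x).comp (algebraMap Ω E)).toAlgebra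
    have : IsScalarTower Ω E ((Spec (CommRingCat.of E)).residueField x) :=
      IsScalarTower.of_algebraMap_eq fun _ => rfl
    exact h _ (fracGen_toRes E x)

end Groth.Agent.Sga7.H759.ResPt
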