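import Groth.Agent.Sga7.H759.ResPt
import Groth.Agent.EtpbcA.ArtinTrdeg
import Groth.Agent.EtpbcA.ArtinDim
import Mathlib.AlgebraicGeometry.Stalk

/-!
# From the dimension of the generic fibre to `GenDimLE`
-/

set_option autoImplicit false
set_option linter.style.haveILetI false

universe u

open CategoryTheory CategoryTheory.Limits AlgebraicGeometry Opposite

namespace Groth.Agent.Sga7.H759.Trd

open Groth.Agent.Sga7.H759.IndAlg Groth.Agent.Sga7.H759.ResPt Groth.Agent.EtpbcA.Artin

theorem AlgAt.of_comp {W X Z : Scheme.{u}} {h : W ⟶ X} {k : X ⟶ Z} {w : W}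
    (h1 : AlgAt (h ≫ k) w) : AlgAt h w := by
  have e := Scheme.residueFieldMap_comp h k w
  have h3 : ((h.residueFieldMap w).hom.comp (k.residueFieldMap (h w)).hom).IsIntegral :=
    (congrArg (fun t : (Z.residueField (k (h w)) ⟶ W.residueField w) => t.hom.IsIntegral) e).mp h1
  exact RingHom.IsIntegral.tower_top _ _ h3

/-- residue field maps for morphisms of affine schemes -/
theorem residueFieldMap_toRes {A B : Type u} [CommRing A] [CommRing B] (φ : A →+* B)
    (w : Spec (CommRingCat.of B)) (a : A) :
    ((Spec.map (CommRingCat.ofHom φ)).residueFieldMap w).hom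
      (toRes A (Spec.map (CommRingCat.ofHom φ) w) a) = toRes B w (φ a) := by
  have h1 : Spec.map ((Spec.map (CommRingCat.ofHom φ)).residueFieldMap w) ≫
      (Spec (CommRingCat.of A)).fromSpecResidueField _ =
      (Spec (CommRingCat.of B)).fromSpecResidueField w ≫ Spec.map (CommRingCat.ofHom φ) :=
    Scheme.Hom.SpecMap_residueFieldMap_fromSpecResidueField _ _
  rw [← specMap_toRes, ← specMap_toRes, ← Spec.map_comp, ← Spec.map_comp] at h1
  have h2 := congrArg (fun t => t.hom a) (Spec.map_injective h1)
  exact h2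

/-- A field generated by the image of `B` defines a point with trivial residue extension. -/
theorem algAt_of_fracGen {B F : Type u} [CommRing B] [Field F] [Algebra B F] (h : FracGen B F)
    (w : Spec (CommRingCat.of F)) : AlgAt (Spec.map (CommRingCat.ofHom (algebraMap B F))) w := by
  refine RingHom.isIntegral_of_surjective _ ?_
  intro z
  obtain ⟨a, b, hb, hz⟩ := fracGen_toRes F w z
  change toRes F w b ≠ 0 at hb
  change z * toRes F w b = toRes F w a at hz
  have hz1 : z = toRes F w (a / b) := by
    rw [map_div₀, ← hz, mul_div_cancel_right₀ _ hb]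
  obtain ⟨c, d, hd, hcd⟩ := h (a / b)
  refine ⟨toRes B _ c / toRes B _ d, ?_⟩
  rw [map_div₀, residueFieldMap_toRes, residueFieldMap_toRes, ← map_div₀, hz1]
  congr 1
  rw [← hcd, mul_div_cancel_right₀ _ hd]

/-- `ResTrdegLE` for the spectrum of a field. -/
theorem trdeg_le_of_resTrdegLE {K F : Type u} [Field K] [Field F] [Algebra K F]
    (w : Spec (CommRingCat.of F)) (n : ℕ)
    (h : EtPBC.ResTrdegLE (Spec.map (CommRingCat.ofHom (algebraMap K F))) w n) :
    Algebra.trdeg K F ≤ n := by
  let κ := (Spec (CommRingCat.of F)).residueField w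
  have h1 : Spec.map (CommRingCat.ofHom ((toRes F w).comp (algebraMap K F))) =
      (Spec (CommRingCat.of F)).fromSpecResidueField w ≫ Spec.map (CommRingCat.ofHom (algebraMap K F)) := by
    rw [CommRingCat.ofHom_comp, Spec.map_comp, specMap_toRes]
  rw [resTrdegLE_iff _ w n _ h1] at h
  refine le_trans ?_ h
  letI : Algebra K κ := ((toRes F w).comp (algebraMap K F)).toAlgebra
  exact _root_.trdeg_le_of_injective ({ toRes F w with commutes' := fun _ => rfl } : F →ₐ[K] κ)
    (toRes F w).injective

theorem resTrdegLE_of_trdeg_le {K F : Type u} [Field K] [Field F] [Algebra K F]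
    (w : Spec (CommRingCat.of F)) (n : ℕ) (h : Algebra.trdeg K F ≤ n) :
    EtPBC.ResTrdegLE (Spec.map (CommRingCat.ofHom (algebraMap K F))) w n := by
  refine resTrdegLE_of_fracGen w n (fun F' _ _ _ _ hF' => ?_)
  refine le_trans ?_ h
  have hsurj : Function.Surjective (algebraMap F F') := by
    intro z
    obtain ⟨a, b, hb, hz⟩ := hF' z
    refine ⟨a / b, ?_⟩
    rw [map_div₀, ← hz, mul_div_cancel_right₀ _ hb]
  exact _root_.trdeg_le_of_surjective (IsScalarTower.toAlgHom K F F') hsurj

/-- The dimension of the generic fibre bounds `GenDimLE` of the affine opens. -/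
theorem genDimLE_of_dim {V K : Type u} [CommRing V] [IsDomain V] [Field K] [Algebra V K]
    [IsFractionRing V K] {X : Scheme.{u}} (f : X ⟶ Spec (CommRingCat.of V)) [LocallyOfFiniteType f]
    (n : ℕ) (hn : topologicalKrullDim ↥(pullback f (Spec.map (CommRingCat.ofHom (algebraMap V K)))) ≤ n)
    {B : Type u} [CommRing B] [Algebra V B] (j : Spec (CommRingCat.of B) ⟶ X) [IsOpenImmersion j]
    (hj : j ≫ f = Spec.map (CommRingCat.ofHom (algebraMap V B))) : GenDimLE V B n := by
  intro F _ _ _ _ hinj hgen
  letI : Algebra K F := (IsFractionRing.lift (A := V) (K := K) (g := algebraMap V F) hinj).toAlgebra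
  haveI : IsScalarTower V K F := IsScalarTower.of_algebraMap_eq fun v =>
    (IsFractionRing.lift_algebraMap hinj v).symm
  let g := Spec.map (CommRingCat.ofHom (algebraMap V K))
  let w : Spec (CommRingCat.of F) := default
  have hw : (Spec.map (CommRingCat.ofHom (algebraMap B F)) ≫ j) ≫ f =
      Spec.map (CommRingCat.ofHom (algebraMap K F)) ≫ g := by
    rw [Category.assoc, hj, ← Spec.map_comp, ← Spec.map_comp, ← CommRingCat.ofHom_comp,
      ← CommRingCat.ofHom_comp, ← IsScalarTower.algebraMap_eq, ← IsScalarTower.algebraMap_eq]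
  let y : Spec (CommRingCat.of F) ⟶ pullback f g := pullback.lift _ _ hw
  have hy1 : y ≫ pullback.fst f g = Spec.map (CommRingCat.ofHom (algebraMap B F)) ≫ j :=
    pullback.lift_fst _ _ _
  have hy2 : y ≫ pullback.snd f g = Spec.map (CommRingCat.ofHom (algebraMap K F)) :=
    pullback.lift_snd _ _ _
  have h1 : AlgAt y w := by
    apply AlgAt.of_comp (k := pullback.fst f g)
    rw [hy1]
    exact AlgAt.comp (algAt_of_fracGen hgen w) (algAt_of_surjectiveOnStalks j _)
  have h2 := (resTrdegLE_iff_dim K _ (pullback.snd f g) n).1 hn (y w)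
  have h3 := (resTrdegLE_comp_iff (pullback.snd f g) y w h1 n).2 h2
  rw [hy2] at h3
  have h4 := trdeg_le_of_resTrdegLE w n h3
  refine le_trans (le_of_eq ?_) h4
  haveI : FaithfulSMul V K := (faithfulSMul_iff_algebraMap_injective _ _).2 (IsFractionRing.injective V K)
  have h5 := _root_.trdeg_add_eq V K (A := F)
  haveI : Algebra.IsAlgebraic V K := IsLocalization.isAlgebraic _ (nonZeroDivisors V)
  have h6 : Algebra.trdeg V K = 0 := _root_.trdeg_eq_zero
  rw [h6, zero_add] at h5
  exact h5.symm

end Groth.Agent.Sga7.H759.Trd
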